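import Cfsg.Agent.H95.QuadMax

/-!
Anisotropic and isotropic vectors in orthogonal complements inside small quadratic spaces.
-/

set_option autoImplicit false

namespace Cfsg.Agent.H57.SLSmall

open scoped MatrixGroups Matrix
open Matrix QuadraticMap
open Cfsg.Agent.H95 hiding exists_iso_perp exists_iso_nonorth

variable {ι : Type} [Fintype ι] [DecidableEq ι] {F : Type*} [Field F] {Q : (ι → F) → F}
  (hQ : Geo.IsNondegenerateQuadraticForm Q)
include hQ

set_option linter.unusedSectionVars false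

/-- An anisotropic vector killed by at most half as many functionals, one of them polar to an
anisotropic vector. -/
lemma exists_aniso_ker_half (h2 : (2 : F) ≠ 0) {k : ℕ} (φ : Fin k → ι → F) (hk : 2 * k ≤ Fintype.card ι)
    (j : Fin k) {v : ι → F} (hj : φ j = dv (polar Q) v) (hv : Q v ≠ 0) :
    ∃ z, (∀ j, φ j ⬝ᵥ z = 0) ∧ Q z ≠ 0 := by
  let L : (ι → F) →ₗ[F] (Fin k → F) :=
    { toFun := fun z j => φ j ⬝ᵥ z
      map_add' := fun a b => funext fun j => dotProduct_add _ _ _
      map_smul' := fun c a => funext fun j => by simp [dotProduct_smul] }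
  by_contra hcon
  push Not at hcon
  have h1 := LinearMap.finrank_range_add_finrank_ker L
  have h3 := Submodule.finrank_le (LinearMap.range L)
  rw [Module.finrank_fin_fun] at h3
  rw [Module.finrank_fintype_fun_eq_card] at h1
  set W := LinearMap.ker L with hW
  have hQW : ∀ x ∈ W, Q x = 0 := fun x hx => hcon x (congrFun (LinearMap.mem_ker.1 hx))
  have horth : ∀ x ∈ W, ∀ y ∈ W, polar Q x y = 0 := fun x hx y hy => by
    rw [polar, hQW _ (W.add_mem hx hy), hQW _ hx, hQW _ hy, sub_zero, sub_zero]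
  let R : W →ₗ[F] Module.Dual F (ι → F) :=
    { toFun := fun w =>
        { toFun := fun x => polar Q x (w : ι → F)
          map_add' := fun y z => p_add_left hQ y z _
          map_smul' := fun c y => p_smul_left hQ c y _ }
      map_add' := fun a b => LinearMap.ext fun x => p_add_right hQ x _ _
      map_smul' := fun c a => LinearMap.ext fun x => p_smul_right hQ c x _ }
  have hinj : Function.Injective R := by
    rw [injective_iff_map_eq_zero]
    intro w hw
    by_contra h
    obtain ⟨⟨x, hx⟩, -⟩ := hQ.nondegenerate (w : ι → F) fun e => h (Subtype.ext e)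
    exact hx (LinearMap.congr_fun hw x)
  have hle : LinearMap.range R ≤ W.dualAnnihilator := by
    rintro _ ⟨w, rfl⟩
    exact (Submodule.mem_dualAnnihilator _).2 fun x hx => horth x hx _ w.2
  have h4 : Module.finrank F W ≤ Module.finrank F W.dualAnnihilator :=
    (LinearMap.finrank_range_of_inj hinj).symm.trans_le (Submodule.finrank_mono hle)
  have h5 := Subspace.finrank_add_finrank_dualAnnihilator_eq W
  rw [Module.finrank_fintype_fun_eq_card] at h5
  have heq : LinearMap.range R = W.dualAnnihilator :=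
    Submodule.eq_of_le_of_finrank_le hle (by rw [LinearMap.finrank_range_of_inj hinj]; omega)
  let pv : Module.Dual F (ι → F) :=
    { toFun := fun x => polar Q x v
      map_add' := fun y z => p_add_left hQ y z _
      map_smul' := fun c y => p_smul_left hQ c y _ }
  obtain ⟨w, hw⟩ : pv ∈ LinearMap.range R := heq ▸ (Submodule.mem_dualAnnihilator _).2 fun x hx => by
    show polar Q x v = 0
    rw [← qv_dot hQ, ← hj]; exact congrFun (LinearMap.mem_ker.1 hx) j
  refine hv ?_
  have hvw : v = (w : ι → F) := by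
    by_contra hne
    obtain ⟨⟨x, hx⟩, -⟩ := hQ.nondegenerate _ (sub_ne_zero.2 hne)
    refine hx ?_
    have h6 : polar Q x (w : ι → F) = polar Q x v := LinearMap.congr_fun hw x
    rw [p_sub_right hQ, h6, sub_self]
  rw [hvw]
  exact hQW _ w.2

/-- A common kernel onto which the space projects orthogonally is not totally singular. -/
lemma exists_aniso_proj (h2 : (2 : F) ≠ 0) {k : ℕ} (φ : Fin k → ι → F) (hk : k < Fintype.card ι)
    (hP : ∀ z, ∃ z', (∀ j, φ j ⬝ᵥ z' = 0) ∧ ∀ y, (∀ j, φ j ⬝ᵥ y = 0) → polar Q z' y = polar Q z y) :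
    ∃ z, (∀ j, φ j ⬝ᵥ z = 0) ∧ Q z ≠ 0 := by
  let L : (ι → F) →ₗ[F] (Fin k → F) :=
    { toFun := fun z j => φ j ⬝ᵥ z
      map_add' := fun a b => funext fun j => dotProduct_add _ _ _
      map_smul' := fun c a => funext fun j => by simp [dotProduct_smul] }
  by_contra hcon
  push Not at hcon
  obtain ⟨y, hy, hy0⟩ := Submodule.exists_mem_ne_zero_of_ne_bot
    (LinearMap.ker_ne_bot_of_finrank_lt (f := L)
      (by rw [Module.finrank_fin_fun, Module.finrank_fintype_fun_eq_card]; exact hk))
  have hyK : ∀ j, φ j ⬝ᵥ y = 0 := congrFun (LinearMap.mem_ker.1 hy)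
  obtain ⟨⟨z, hz⟩, -⟩ := hQ.nondegenerate y hy0
  obtain ⟨z', hz', hzy⟩ := hP z
  refine hz ?_
  rw [← hzy y hyK, polar, hcon _ hz', hcon _ hyK,
    hcon (z' + y) fun j => by rw [dotProduct_add, hz', hyK, add_zero], sub_zero, sub_zero]

/-- An isotropic vector orthogonal to a given one. -/
lemma exists_iso_perp [Fintype F] (h2 : (2 : F) ≠ 0) (hn : 6 ≤ Fintype.card ι) (v : ι → F) :
    ∃ e, e ≠ 0 ∧ Q e = 0 ∧ polar Q e v = 0 := by
  obtain ⟨x, hx, hx'⟩ := exists_aniso_ker hQ h2 ![dv (polar Q) v] (by omega)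
  obtain ⟨y, hy, hy'⟩ := exists_aniso_ker hQ h2 ![dv (polar Q) v, dv (polar Q) x] (by omega)
  obtain ⟨z, hz, hz'⟩ := exists_aniso_ker_half hQ h2
    ![dv (polar Q) v, dv (polar Q) x, dv (polar Q) y] (by omega) 1 (v := x) rfl hx'
  have a1 : polar Q x v = 0 := by rw [← qv_dot hQ]; exact hx 0
  have a2 : polar Q y v = 0 := by rw [← qv_dot hQ]; exact hy 0
  have a3 : polar Q z v = 0 := by rw [← qv_dot hQ]; exact hz 0
  have b1 : polar Q y x = 0 := by rw [← qv_dot hQ]; exact hy 1
  have b2 : polar Q z x = 0 := by rw [← qv_dot hQ]; exact hz 1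
  have b3 : polar Q z y = 0 := by rw [← qv_dot hQ]; exact hz 2
  let W : Submodule F (ι → F) :=
    { carrier := {w | polar Q w v = 0}
      add_mem' := fun {a b} (ha : polar Q a v = 0) (hb : polar Q b v = 0) =>
        show polar Q (a + b) v = 0 by rw [p_add_left hQ, ha, hb, add_zero]
      zero_mem' := p_zero_left hQ v
      smul_mem' := fun c a (ha : polar Q a v = 0) =>
        show polar Q (c • a) v = 0 by rw [p_smul_left hQ, ha, mul_zero] }
  obtain ⟨e, he, he0, he'⟩ := exists_iso_of_three hQ h2 (W := W) a1 a2 a3 hx' hy' hz'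
    (by rw [p_comm hQ, b1]) (by rw [p_comm hQ, b2]) (by rw [p_comm hQ, b3])
  exact ⟨e, he0, he', he⟩

/-- An isotropic vector orthogonal to `v` and non-orthogonal to `u`. -/
lemma exists_iso_nonorth [Fintype F] (h2 : (2 : F) ≠ 0) (hn : 6 ≤ Fintype.card ι) {v u : ι → F}
    (hv0 : v = 0 ∨ Q v ≠ 0) (h : ∃ y, polar Q y v = 0 ∧ polar Q u y ≠ 0) :
    ∃ e, Q e = 0 ∧ polar Q e v = 0 ∧ polar Q u e ≠ 0 := by
  obtain ⟨e₀, he₀0, he₀, he₀v⟩ := exists_iso_perp hQ h2 hn v
  by_contra hcon
  push Not at hcon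
  obtain ⟨y, hyv, huy⟩ := h
  have hu0 : polar Q u e₀ = 0 := hcon e₀ he₀ he₀v
  have key : ∀ y, polar Q y v = 0 → polar Q e₀ y ≠ 0 → polar Q u y = 0 := by
    intro y hy hne
    have h1 := hcon (y - (Q y / polar Q e₀ y) • e₀)
      (by rw [q_sub hQ, q_smul hQ, he₀, p_smul_right hQ, p_comm hQ y e₀, div_mul_cancel₀ _ hne]
          ring)
      (by rw [p_sub_left hQ, p_smul_left hQ, hy, he₀v, mul_zero, sub_zero])
    rwa [p_sub_right hQ, p_smul_right hQ, hu0, mul_zero, sub_zero] at h1
  rcases eq_or_ne (polar Q e₀ y) 0 with h0 | h0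
  · obtain ⟨y1, hy1, hy1'⟩ : ∃ y1, polar Q y1 v = 0 ∧ polar Q e₀ y1 ≠ 0 := by
      by_contra hc
      push Not at hc
      obtain ⟨⟨w, hw⟩, -⟩ := hQ.nondegenerate e₀ he₀0
      rcases hv0 with hv | hv
      · exact hw (by rw [p_comm hQ]; exact hc w (by rw [hv, p_zero_right hQ]))
      · have h3 := hc (w - (polar Q w v / polar Q v v) • v)
          (by rw [p_sub_left hQ, p_smul_left hQ, div_mul_cancel₀ _
            (by rw [p_self hQ]; exact mul_ne_zero h2 hv), sub_self])
        rw [p_sub_right hQ, p_smul_right hQ, he₀v, mul_zero, sub_zero, p_comm hQ] at h3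
        exact hw h3
    have h3 := key (y + y1) (by rw [p_add_left hQ, hyv, hy1, add_zero])
      (by rw [p_add_right hQ, h0, zero_add]; exact hy1')
    rw [p_add_right hQ, key y1 hy1 hy1', add_zero] at h3
    exact huy h3
  · exact huy (key y hyv h0)

end Cfsg.Agent.H57.SLSmall
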