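/-
Two non-proportional quadratic forms: the products of pairs of their reflections and the Siegel
transformations of one of them generate a group containing SL.
-/
import Cfsg.Agent.H57.SLSmall.Quad

set_option autoImplicit false

namespace Cfsg.Agent.H57.SLSmall

open scoped MatrixGroups Matrix
open Matrix QuadraticMap
open Cfsg.Agent.H95 hiding exists_iso_perp exists_iso_nonorth exists_good_ker span_good exists_good_noneigen exists_transvection specialLinear_le_of_two_forms

variable {ι : Type} [Fintype ι] [DecidableEq ι] {F : Type*} [Field F] [Fintype F]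
  {Q Q' : (ι → F) → F} (hQ : Geo.IsNondegenerateQuadraticForm Q)
  (hQ' : Geo.IsNondegenerateQuadraticForm Q') (h2 : (2 : F) ≠ 0) (hn : 6 ≤ Fintype.card ι)
include hQ hQ' h2 hn

set_option linter.unusedSectionVars false

attribute [-simp] Matrix.coe_units_inv

/-- A vector anisotropic for both forms in the kernel of a few functionals. -/
lemma exists_good_ker {k : ℕ} (φ : Fin k → ι → F) (hk : 2 * (k + 1) < Fintype.card ι) :
    ∃ z, (∀ j, φ j ⬝ᵥ z = 0) ∧ Q z ≠ 0 ∧ Q' z ≠ 0 := by
  obtain ⟨a, ha, ha'⟩ := exists_aniso_ker hQ' h2 φ (by omega)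
  rcases eq_or_ne (Q a) 0 with hQa | hQa
  swap
  · exact ⟨a, ha, hQa, ha'⟩
  obtain ⟨y, hy, hQy⟩ := exists_aniso_ker hQ h2 (Fin.cons (dv (polar Q) a) φ) hk
  have hya : polar Q a y = 0 := by rw [p_comm hQ, ← qv_dot hQ]; simpa using hy 0
  have hy' : ∀ j, φ j ⬝ᵥ y = 0 := fun j => by simpa using hy j.succ
  rcases eq_or_ne (Q' y) 0 with hy0 | hy0
  swap
  · exact ⟨y, hy', hQy, hy0⟩
  rcases eq_or_ne (Q' (a + y)) 0 with hs | hs
  swap
  · exact ⟨a + y, fun j => by rw [dotProduct_add, ha, hy', add_zero],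
      by rw [q_add hQ, hQa, hya, add_zero, zero_add]; exact hQy, hs⟩
  refine ⟨a - y, fun j => by rw [dotProduct_sub, ha, hy', sub_zero],
    by rw [q_sub hQ, hQa, hya, sub_zero, zero_add]; exact hQy, fun h => ha' ?_⟩
  rw [q_add hQ', hy0, add_zero] at hs
  rw [q_sub hQ', hy0, add_zero] at h
  have : (2 : F) * Q' a = 0 := by linear_combination hs + h
  exact (mul_eq_zero.1 this).resolve_left h2

/-- The same with at most half as many functionals, one polar for each form to an anisotropic vector. -/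
lemma exists_good_ker_half {k : ℕ} (φ : Fin k → ι → F) (hk : 2 * (k + 1) ≤ Fintype.card ι) (j : Fin k) {v : ι → F}
    (hj : φ j = dv (polar Q) v) (hv : Q v ≠ 0) :
    ∃ z, (∀ j, φ j ⬝ᵥ z = 0) ∧ Q z ≠ 0 ∧ Q' z ≠ 0 := by
  obtain ⟨a, ha, ha'⟩ := exists_aniso_ker hQ' h2 φ (by omega)
  rcases eq_or_ne (Q a) 0 with hQa | hQa
  swap
  · exact ⟨a, ha, hQa, ha'⟩
  obtain ⟨y, hy, hQy⟩ := exists_aniso_ker_half hQ h2 (Fin.cons (dv (polar Q) a) φ) hk j.succ
    (v := v) (by simpa using hj) hv
  have hya : polar Q a y = 0 := by rw [p_comm hQ, ← qv_dot hQ]; simpa using hy 0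
  have hy' : ∀ j, φ j ⬝ᵥ y = 0 := fun j => by simpa using hy j.succ
  rcases eq_or_ne (Q' y) 0 with hy0 | hy0
  swap
  · exact ⟨y, hy', hQy, hy0⟩
  rcases eq_or_ne (Q' (a + y)) 0 with hs | hs
  swap
  · exact ⟨a + y, fun j => by rw [dotProduct_add, ha, hy', add_zero],
      by rw [q_add hQ, hQa, hya, add_zero, zero_add]; exact hQy, hs⟩
  refine ⟨a - y, fun j => by rw [dotProduct_sub, ha, hy', sub_zero],
    by rw [q_sub hQ, hQa, hya, sub_zero, zero_add]; exact hQy, fun h => ha' ?_⟩
  rw [q_add hQ', hy0, add_zero] at hs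
  rw [q_sub hQ', hy0, add_zero] at h
  have : (2 : F) * Q' a = 0 := by linear_combination hs + h
  exact (mul_eq_zero.1 this).resolve_left h2

/-- Those vectors span. -/
lemma span_good {H : Submodule F (ι → F)} (hH : ∀ v, Q v ≠ 0 → Q' v ≠ 0 → v ∈ H) : H = ⊤ := by
  by_contra hne
  obtain ⟨w, -, hw⟩ := SetLike.exists_of_lt (lt_top_iff_ne_top.2 hne)
  obtain ⟨ψ, hψw, hψ⟩ := exists_covec H hw
  -- a vector outside `H` anisotropic for the second form
  obtain ⟨x, hx, hx'⟩ : ∃ x, ψ ⬝ᵥ x ≠ 0 ∧ Q' x ≠ 0 := by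
    by_contra hcon
    push Not at hcon
    obtain ⟨h, hh, hh'⟩ := exists_aniso_ker hQ' h2 ![ψ] (by omega)
    have h0 : ψ ⬝ᵥ h = 0 := hh 0
    have a1 := hcon (w + h) (by rw [dotProduct_add, hψw, h0, add_zero]; exact one_ne_zero)
    have a2 := hcon (w - h) (by rw [dotProduct_sub, hψw, h0, sub_zero]; exact one_ne_zero)
    have a3 := hcon w (by rw [hψw]; exact one_ne_zero)
    rw [q_add hQ', a3, zero_add] at a1
    rw [q_sub hQ', a3, zero_add] at a2
    have : (2 : F) * Q' h = 0 := by linear_combination a1 + a2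
    exact hh' ((mul_eq_zero.1 this).resolve_left h2)
  have hxH : x ∉ H := fun h => hx (hψ x h)
  have hQx : Q x = 0 := by
    by_contra h
    exact hxH (hH x h hx')
  have key : ∀ h, ψ ⬝ᵥ h = 0 → polar Q x h = 0 → Q h ≠ 0 →
      polar Q' x h = 0 ∧ Q' h = -Q' x := by
    intro h hψh hxh hQh
    have b1 : Q' (x + h) = 0 := by
      by_contra hne'
      refine hx ?_
      have := hψ _ (hH (x + h) (by rw [q_add hQ, hQx, hxh, add_zero, zero_add]; exact hQh) hne')
      rwa [dotProduct_add, hψh, add_zero] at this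
    have b2 : Q' (x - h) = 0 := by
      by_contra hne'
      refine hx ?_
      have := hψ _ (hH (x - h) (by rw [q_sub hQ, hQx, hxh, sub_zero, zero_add]; exact hQh) hne')
      rwa [dotProduct_sub, hψh, sub_zero] at this
    rw [q_add hQ'] at b1
    rw [q_sub hQ'] at b2
    have hp : (2 : F) * polar Q' x h = 0 := by linear_combination b1 - b2
    have hp' := (mul_eq_zero.1 hp).resolve_left h2
    exact ⟨hp', by linear_combination b1 - hp'⟩
  obtain ⟨a, ha⟩ := exists_qv hQ ψ
  have p : ∀ {a z : ι → F}, dv (polar Q) a ⬝ᵥ z = 0 → polar Q a z = 0 := fun {a z} h => by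
    rw [p_comm hQ, ← qv_dot hQ]; exact h
  set c := polar Q x a with hc'
  have hc : c ≠ 0 := by rw [hc', ← qv_dot hQ, ha]; exact hx
  -- the orthogonal projection off the plane of `a` and `x`
  let P : (ι → F) → ι → F := fun z => z - (polar Q z x / c) • a -
    ((polar Q z a - 2 * (polar Q z x / c) * Q a) / c) • x
  have hPx : ∀ z, polar Q (P z) x = 0 := fun z => by
    simp only [P, p_sub_left hQ, p_smul_left hQ, p_comm hQ a x, ← hc', p_self hQ, hQx]
    field_simp
    ring
  have hPa : ∀ z, polar Q (P z) a = 0 := fun z => by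
    simp only [P, p_sub_left hQ, p_smul_left hQ, ← hc', p_self hQ]
    field_simp
    ring
  have hPy : ∀ z y, polar Q a y = 0 → polar Q x y = 0 → polar Q (P z) y = polar Q z y := fun z y h h' => by
    simp only [P, p_sub_left hQ, p_smul_left hQ, h, h', mul_zero, sub_zero]
  have hker : ∀ y, ψ ⬝ᵥ y = 0 → polar Q a y = 0 := fun y h => p (by rw [ha]; exact h)
  obtain ⟨h₁, c1, d1⟩ := exists_aniso_proj hQ h2 ![ψ, dv (polar Q) x] (by omega) fun z =>
    ⟨P z, Fin.forall_fin_two.2 ⟨by rw [← ha]; exact (qv_dot hQ _ _).trans (hPa z),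
      (qv_dot hQ _ _).trans (hPx z)⟩,
      fun y hy => hPy z y (hker y (hy 0)) (p (hy 1))⟩
  have a1 : polar Q a h₁ = 0 := hker h₁ (c1 0)
  have x1 : polar Q x h₁ = 0 := p (c1 1)
  have n1 : (2 : F) * Q h₁ ≠ 0 := mul_ne_zero h2 d1
  let P₁ : (ι → F) → ι → F := fun z => P z - (polar Q z h₁ / (2 * Q h₁)) • h₁
  have hP1 : ∀ z, polar Q (P₁ z) a = 0 ∧ polar Q (P₁ z) x = 0 ∧ polar Q (P₁ z) h₁ = 0 := fun z => by
    simp only [P₁, p_sub_left hQ, p_smul_left hQ, hPa, hPx, hPy z h₁ a1 x1, p_self hQ, p_comm hQ h₁ a,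
      p_comm hQ h₁ x, a1, x1, mul_zero, sub_zero, true_and]
    rw [div_mul_cancel₀ _ n1, sub_self]
  have hP1y : ∀ z y, polar Q a y = 0 → polar Q x y = 0 → polar Q h₁ y = 0 →
      polar Q (P₁ z) y = polar Q z y := fun z y h h' h'' => by
    simp only [P₁, p_sub_left hQ, p_smul_left hQ, hPy z y h h', h'', mul_zero, sub_zero]
  obtain ⟨h₂, c2, d2⟩ := exists_aniso_proj hQ h2 ![ψ, dv (polar Q) x, dv (polar Q) h₁] (by omega) fun z =>
    ⟨P₁ z, fun j => by
      fin_cases j
      · show ψ ⬝ᵥ P₁ z = 0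
        rw [← ha, qv_dot hQ]; exact (hP1 z).1
      · exact (qv_dot hQ _ _).trans (hP1 z).2.1
      · exact (qv_dot hQ _ _).trans (hP1 z).2.2,
      fun y hy => hP1y z y (hker y (hy 0)) (p (hy 1)) (p (hy 2))⟩
  have a2 : polar Q a h₂ = 0 := hker h₂ (c2 0)
  have x2 : polar Q x h₂ = 0 := p (c2 1)
  have b2 : polar Q h₁ h₂ = 0 := p (c2 2)
  have n2 : (2 : F) * Q h₂ ≠ 0 := mul_ne_zero h2 d2
  obtain ⟨h₃, c3, d3⟩ := exists_aniso_proj hQ h2
    ![ψ, dv (polar Q) x, dv (polar Q) h₁, dv (polar Q) h₂] (by omega) fun z => by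
      obtain ⟨q1, q2, q3⟩ := hP1 z
      refine ⟨P₁ z - (polar Q z h₂ / (2 * Q h₂)) • h₂, fun j => ?_, fun y hy => ?_⟩
      · fin_cases j
        · show ψ ⬝ᵥ _ = 0
          rw [← ha, qv_dot hQ, p_sub_left hQ, p_smul_left hQ, q1, p_comm hQ h₂ a, a2, mul_zero, sub_zero]
        · show dv (polar Q) x ⬝ᵥ _ = 0
          rw [qv_dot hQ, p_sub_left hQ, p_smul_left hQ, q2, p_comm hQ h₂ x, x2, mul_zero, sub_zero]
        · show dv (polar Q) h₁ ⬝ᵥ _ = 0
          rw [qv_dot hQ, p_sub_left hQ, p_smul_left hQ, q3, p_comm hQ h₂ h₁, b2, mul_zero, sub_zero]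
        · show dv (polar Q) h₂ ⬝ᵥ _ = 0
          rw [qv_dot hQ, p_sub_left hQ, p_smul_left hQ, hP1y z h₂ a2 x2 b2, p_self hQ,
            div_mul_cancel₀ _ n2, sub_self]
      · have hy3 : polar Q h₂ y = 0 := p (hy 3)
        rw [p_sub_left hQ, p_smul_left hQ, hP1y z y (hker y (hy 0)) (p (hy 1)) (p (hy 2)), hy3,
          mul_zero, sub_zero]
  have pair : ∀ u v, ψ ⬝ᵥ u = 0 → ψ ⬝ᵥ v = 0 → polar Q x u = 0 → polar Q x v = 0 →
      polar Q u v = 0 → Q u ≠ 0 → Q v ≠ 0 → Q u + Q v = 0 := by
    intro u v a1 a2 a3 a4 a5 a6 a7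
    by_contra hne'
    have k1 := (key u a1 a3 a6).2
    have k2 := (key v a2 a4 a7).2
    have k3 := (key (u + v) (by rw [dotProduct_add, a1, a2, add_zero])
      (by rw [p_add_right hQ, a3, a4, add_zero]) (by rw [q_add hQ, a5, add_zero]; exact hne')).2
    have k4 := (key (u - v) (by rw [dotProduct_sub, a1, a2, sub_zero])
      (by rw [p_sub_right hQ, a3, a4, sub_zero]) (by rw [q_sub hQ, a5, sub_zero]; exact hne')).2
    rw [q_add hQ', k1, k2] at k3
    rw [q_sub hQ', k1, k2] at k4
    have : (2 : F) * Q' x = 0 := by linear_combination -k3 - k4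
    exact hx' ((mul_eq_zero.1 this).resolve_left h2)
  have e12 := pair h₁ h₂ (c1 0) (c2 0) (p (c1 1)) (p (c2 1)) (p (c2 2)) d1 d2
  have e13 := pair h₁ h₃ (c1 0) (c3 0) (p (c1 1)) (p (c3 1)) (p (c3 2)) d1 d3
  have e23 := pair h₂ h₃ (c2 0) (c3 0) (p (c2 1)) (p (c3 1)) (p (c3 3)) d2 d3
  have : (2 : F) * Q h₁ = 0 := by linear_combination e12 + e13 - e23
  exact d1 ((mul_eq_zero.1 this).resolve_left h2)

/-- A vector anisotropic for both forms with differing orthogonal hyperplanes. -/
lemma exists_good_noneigen (hne : ∀ l : F, ∃ x, Q' x ≠ l * Q x) :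
    ∃ v, Q v ≠ 0 ∧ Q' v ≠ 0 ∧ ∃ x, polar Q' x v / Q' v ≠ polar Q x v / Q v := by
  classical
  by_contra hcon
  push Not at hcon
  let D : F → Submodule F (ι → F) := fun l =>
    { carrier := {y | ∀ x, polar Q' x y = l * polar Q x y}
      add_mem' := fun {a b} ha hb x => by
        rw [p_add_right hQ', p_add_right hQ, ha x, hb x, mul_add]
      zero_mem' := fun x => by rw [p_zero_right hQ', p_zero_right hQ, mul_zero]
      smul_mem' := fun c a ha x => by
        rw [p_smul_right hQ', p_smul_right hQ, ha x, mul_left_comm] }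
  have heig : ∀ v, Q v ≠ 0 → Q' v ≠ 0 → v ∈ D (Q' v / Q v) := by
    intro v hv hv' x
    have := hcon v hv hv' x
    rw [div_eq_div_iff hv' hv] at this
    rw [div_mul_eq_mul_div, eq_div_iff hv]
    linear_combination this
  have hDorth : ∀ l r, l ≠ r → ∀ a ∈ D l, ∀ b ∈ D r, polar Q a b = 0 := by
    intro l r hlr a ha b hb
    have h1 : polar Q' a b = r * polar Q a b := hb a
    have h3 : polar Q' b a = l * polar Q b a := ha b
    rw [p_comm hQ', p_comm hQ] at h3
    have : (r - l) * polar Q a b = 0 := by linear_combination h3 - h1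
    exact (mul_eq_zero.1 this).resolve_left (sub_ne_zero.2 (Ne.symm hlr))
  set L : Finset F := Finset.univ.filter fun l => ∃ v, Q v ≠ 0 ∧ Q' v ≠ 0 ∧ Q' v / Q v = l with hL
  have hLtop : L.sup D = ⊤ := span_good hQ hQ' h2 hn fun v hv hv' =>
    (Finset.le_sup (f := D) (by
      rw [hL, Finset.mem_filter]; exact ⟨Finset.mem_univ _, v, hv, hv', rfl⟩)) (heig v hv hv')
  -- no anisotropic combination from two different eigenspaces
  have hmix : ∀ l r, l ≠ r → ∀ a ∈ D l, ∀ b ∈ D r, Q b ≠ 0 → a ≠ 0 →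
      Q (a + b) ≠ 0 → Q' (a + b) = 0 := by
    intro l r hlr a ha b hb hQb ha0 hs
    by_contra hs'
    have h := heig (a + b) hs hs'
    set ν := Q' (a + b) / Q (a + b)
    obtain ⟨⟨x, hx⟩, -⟩ := hQ.nondegenerate a ha0
    have h1 := h b
    rw [p_add_right hQ', p_add_right hQ, ha b, hb b, p_comm hQ b a, hDorth l r hlr a ha b hb,
      mul_zero, zero_add, zero_add, p_self hQ] at h1
    have hν : r = ν := mul_right_cancel₀ (mul_ne_zero h2 hQb) h1
    have h3 := h x
    rw [p_add_right hQ', p_add_right hQ, ha x, hb x, ← hν] at h3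
    have : (l - r) * polar Q x a = 0 := by linear_combination h3
    exact hx ((mul_eq_zero.1 this).resolve_left (sub_ne_zero.2 hlr))
  have hQ'D : ∀ l, ∀ a ∈ D l, Q' a = l * Q a := by
    intro l a ha
    have := ha a
    rw [p_self hQ', p_self hQ] at this
    exact mul_left_cancel₀ h2 (by linear_combination this)
  -- two eigenvalues
  obtain ⟨v, w, l, r, hlr, hv, hw, hl0, hr0, hvD, hwD⟩ : ∃ v w, ∃ l r : F, l ≠ r ∧ Q v ≠ 0 ∧
      Q w ≠ 0 ∧ l ≠ 0 ∧ r ≠ 0 ∧ v ∈ D l ∧ w ∈ D r := by
    obtain ⟨v, -, hv, hv'⟩ := exists_good_ker hQ hQ' h2 hn (![] : Fin 0 → ι → F) (by omega)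
    by_contra hc
    push Not at hc
    have htop : D (Q' v / Q v) = ⊤ := span_good hQ hQ' h2 hn fun w hw hw' => by
      by_contra hnot
      refine hc v w (Q' v / Q v) (Q' w / Q w) (fun e => hnot ?_) hv hw
        (div_ne_zero hv' hv) (div_ne_zero hw' hw) (heig v hv hv') (heig w hw hw')
      rw [e]; exact heig w hw hw'
    obtain ⟨x, hx⟩ := hne (Q' v / Q v)
    exact hx (hQ'D _ x (htop ▸ Submodule.mem_top))
  rcases le_or_gt (Fintype.card F) 5 with hq | hq
  · -- some eigenspace has dimension two, and three if the field has three elements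
    set m := if Fintype.card F ≤ 3 then 3 else 2 with hm
    obtain ⟨p, hp, hpm⟩ : ∃ p ∈ L, m ≤ Module.finrank F (D p) := by
      by_contra hc
      push Not at hc
      have hsum : ∀ S : Finset F, S ⊆ L → Module.finrank F (S.sup D : Submodule F (ι → F)) ≤
          (m - 1) * S.card := by
        intro S
        induction S using Finset.induction_on with
        | empty => intro _; simp
        | insert s S hs ih =>
          intro hS
          rw [Finset.sup_insert, Finset.card_insert_of_notMem hs]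
          have h1 := Submodule.finrank_add_le_finrank_add_finrank (D s) (S.sup D)
          have h3 := ih ((Finset.subset_insert s S).trans hS)
          have h4 := hc s (hS (Finset.mem_insert_self s S))
          rw [Nat.mul_add, mul_one]
          omega
      have h1 := hsum L subset_rfl
      rw [hLtop, finrank_top, Module.finrank_fintype_fun_eq_card] at h1
      have h3 : L.card + 1 ≤ Fintype.card F := by
        have hsub : L ⊆ Finset.univ.erase (0 : F) := fun x hx => by
          rw [hL, Finset.mem_filter] at hx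
          obtain ⟨-, u, hu, hu', rfl⟩ := hx
          simp [hu, hu']
        have h5 := Finset.card_le_card hsub
        rw [Finset.card_erase_of_mem (Finset.mem_univ _), Finset.card_univ] at h5
        have := Fintype.card_pos (α := F)
        omega
      rw [hm] at h1
      split_ifs at h1 <;> omega
    obtain ⟨u, hu, hu', hup⟩ : ∃ u, Q u ≠ 0 ∧ Q' u ≠ 0 ∧ Q' u / Q u = p := by
      rw [hL, Finset.mem_filter] at hp; exact hp.2
    have huD : u ∈ D p := hup ▸ heig u hu hu'
    -- every vector of the eigenspace not killed by it stays visible there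
    have hrad : ∀ y ∈ D p, (∀ z ∈ D p, polar Q y z = 0) → y = 0 := by
      intro y hy hz
      by_contra hy0
      obtain ⟨-, x, hx⟩ := hQ.nondegenerate y hy0
      apply hx
      have hker : L.sup D ≤ LinearMap.ker
          ({ toFun := fun z => polar Q y z
             map_add' := fun a b => p_add_right hQ y a b
             map_smul' := fun c a => p_smul_right hQ c y a } : (ι → F) →ₗ[F] F) := by
        refine Finset.sup_le fun s _ z hz' => ?_
        rw [LinearMap.mem_ker]
        rcases eq_or_ne p s with rfl | hps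
        · exact hz z hz'
        · exact hDorth p s hps y hy z hz'
      exact hker (hLtop ▸ Submodule.mem_top)
    have hex : ∀ S : Finset (ι → F), S.card < m → (∀ a ∈ S, a ∈ D p ∧ Q a ≠ 0) →
        (∀ a ∈ S, ∀ b ∈ S, a ≠ b → polar Q a b = 0) →
        ∃ z ∈ D p, Q z ≠ 0 ∧ ∀ a ∈ S, polar Q a z = 0 := by
      intro S hS hSD horth
      by_contra hc
      push Not at hc
      have hproj : ∀ z ∈ D p, z ∈ Submodule.span F (S : Set (ι → F)) := by
        intro z hz
        set z' := z - ∑ a ∈ S, (polar Q a z / polar Q a a) • a with hz'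
        have hz'D : z' ∈ D p := Submodule.sub_mem _ hz
          (Submodule.sum_mem _ fun a ha => Submodule.smul_mem _ _ (hSD a ha).1)
        have hperp : ∀ a ∈ S, polar Q a z' = 0 := by
          intro a ha
          rw [hz', p_sub_right hQ]
          let P : (ι → F) →+ F :=
            { toFun := fun y => polar Q a y, map_zero' := p_zero_right hQ a
              map_add' := fun c d => p_add_right hQ a c d }
          rw [show polar Q a (∑ b ∈ S, (polar Q b z / polar Q b b) • b) =
            P (∑ b ∈ S, (polar Q b z / polar Q b b) • b) from rfl, map_sum]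
          rw [Finset.sum_eq_single a ?_ (fun h => absurd ha h)]
          · show _ - polar Q a _ = 0
            rw [p_smul_right hQ, div_mul_cancel₀ _ (by
              rw [p_self hQ]; exact mul_ne_zero h2 (hSD a ha).2), sub_self]
          · intro b hb hba
            show polar Q a _ = 0
            rw [p_smul_right hQ, horth a ha b hb (Ne.symm hba), mul_zero]
        have hQz : ∀ y ∈ D p, (∀ a ∈ S, polar Q a y = 0) → Q y = 0 := by
          intro y hy hya
          by_contra h
          obtain ⟨a, ha, ha'⟩ := hc y hy h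
          exact ha' (hya a ha)
        have hz0 : z' = 0 := by
          refine hrad z' hz'D fun y hy => ?_
          set y' := y - ∑ a ∈ S, (polar Q a y / polar Q a a) • a with hy'
          have hy'D : y' ∈ D p := Submodule.sub_mem _ hy
            (Submodule.sum_mem _ fun a ha => Submodule.smul_mem _ _ (hSD a ha).1)
          have hperp' : ∀ a ∈ S, polar Q a y' = 0 := by
            intro a ha
            rw [hy', p_sub_right hQ]
            let P : (ι → F) →+ F :=
              { toFun := fun y => polar Q a y, map_zero' := p_zero_right hQ a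
                map_add' := fun c d => p_add_right hQ a c d }
            rw [show polar Q a (∑ b ∈ S, (polar Q b y / polar Q b b) • b) =
              P (∑ b ∈ S, (polar Q b y / polar Q b b) • b) from rfl, map_sum]
            rw [Finset.sum_eq_single a ?_ (fun h => absurd ha h)]
            · show _ - polar Q a _ = 0
              rw [p_smul_right hQ, div_mul_cancel₀ _ (by
                rw [p_self hQ]; exact mul_ne_zero h2 (hSD a ha).2), sub_self]
            · intro b hb hba
              show polar Q a _ = 0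
              rw [p_smul_right hQ, horth a ha b hb (Ne.symm hba), mul_zero]
          have h0 : polar Q z' y' = 0 := by
            have := hQz (z' + y') (Submodule.add_mem _ hz'D hy'D) fun a ha => by
              rw [p_add_right hQ, hperp a ha, hperp' a ha, add_zero]
            rwa [q_add hQ, hQz z' hz'D hperp, hQz y' hy'D hperp', zero_add, zero_add] at this
          have hsum : polar Q z' (∑ a ∈ S, (polar Q a y / polar Q a a) • a) = 0 := by
            let P : (ι → F) →+ F :=
              { toFun := fun y => polar Q z' y, map_zero' := p_zero_right hQ z'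
                map_add' := fun c d => p_add_right hQ z' c d }
            rw [show polar Q z' (∑ a ∈ S, (polar Q a y / polar Q a a) • a) =
              P (∑ a ∈ S, (polar Q a y / polar Q a a) • a) from rfl, map_sum]
            refine Finset.sum_eq_zero fun a ha => ?_
            show polar Q z' _ = 0
            rw [p_smul_right hQ, p_comm hQ z' a, hperp a ha, mul_zero]
          rw [hy', p_sub_right hQ, hsum, sub_zero] at h0
          exact h0
        rw [sub_eq_zero.1 hz0]
        exact Submodule.sum_mem _ fun a ha => Submodule.smul_mem _ _ (Submodule.subset_span ha)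
      have h1 := Submodule.finrank_mono (show D p ≤ Submodule.span F (S : Set (ι → F)) from hproj)
      have h3 := finrank_span_finset_le_card (R := F) S
      rw [Set.finrank] at h3
      omega
    obtain ⟨b, hb, hQb, hub⟩ := hex {u} (by rw [hm]; split_ifs <;> simp) (by simpa using ⟨huD, hu⟩)
      (by intro a ha b hb hab; simp at ha hb; exact absurd (ha.trans hb.symm) hab)
    have hub' : polar Q u b = 0 := hub u (by simp)
    -- a vector of another eigenspace
    obtain ⟨z, s, hps, hzD, hQz, hs0⟩ : ∃ z, ∃ s : F, p ≠ s ∧ z ∈ D s ∧ Q z ≠ 0 ∧ s ≠ 0 := by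
      rcases eq_or_ne p l with rfl | h
      · exact ⟨w, r, hlr, hwD, hw, hr0⟩
      · exact ⟨v, l, h, hvD, hv, hl0⟩
    by_cases hq3 : Fintype.card F ≤ 3
    swap
    · -- the plane takes every value
      have hp0 : p ≠ 0 := hup ▸ div_ne_zero hu' hu
      obtain ⟨t, ht0, ht1, ht2⟩ : ∃ t : F, t ≠ 0 ∧ Q z + t ≠ 0 ∧ s * Q z + p * t ≠ 0 := by
        obtain ⟨t, -, ht⟩ := Finset.exists_mem_notMem_of_card_lt_card
          (s := ({0, -Q z, -(s * Q z) / p} : Finset F)) (t := Finset.univ)
          (lt_of_le_of_lt Finset.card_le_three (by rw [Finset.card_univ]; omega))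
        simp only [Finset.mem_insert, Finset.mem_singleton, not_or] at ht
        refine ⟨t, ht.1, fun h => ht.2.1 (eq_neg_of_add_eq_zero_right h), fun h => ht.2.2 ?_⟩
        rw [eq_div_iff hp0]
        linear_combination h
      obtain ⟨i, k, hik⟩ := FiniteField.exists_root_sum_quadratic
        (f := Polynomial.C (Q u) * Polynomial.X ^ 2 + Polynomial.C (-t))
        (g := Polynomial.C (Q b) * Polynomial.X ^ 2)
        (by
          rw [Polynomial.degree_add_eq_left_of_degree_lt]
          · exact Polynomial.degree_C_mul_X_pow _ hu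
          · rw [Polynomial.degree_C_mul_X_pow _ hu]
            exact lt_of_le_of_lt Polynomial.degree_C_le (by decide))
        (Polynomial.degree_C_mul_X_pow _ hQb)
        (FiniteField.odd_card_of_char_ne_two fun h => h2 (by
          have := ringChar.spec F 2
          rw [h] at this
          exact_mod_cast this.2 dvd_rfl))
      simp only [Polynomial.eval_add, Polynomial.eval_mul, Polynomial.eval_C, Polynomial.eval_pow,
        Polynomial.eval_X] at hik
      set y := i • u + k • b with hy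
      have hyD : y ∈ D p := (D p).add_mem ((D p).smul_mem _ huD) ((D p).smul_mem _ hb)
      have hQy : Q y = t := by
        rw [hy, q_add hQ, q_smul hQ, q_smul hQ, p_smul_left hQ, p_smul_right hQ, hub u (by simp)]
        linear_combination hik
      have horth := hDorth s p (Ne.symm hps) z hzD y hyD
      have hz0 : z ≠ 0 := fun e => hQz (by rw [e, q_zero hQ])
      have h1 := hmix s p (Ne.symm hps) z hzD y hyD (by rw [hQy]; exact ht0) hz0
        (by rw [q_add hQ, horth, hQy, add_zero]; exact ht1)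
      have h3 : polar Q' z y = p * polar Q z y := hyD z
      rw [q_add hQ', hQ'D s z hzD, hQ'D p y hyD, h3, horth, hQy, mul_zero, add_zero] at h1
      exact ht2 h1
    obtain ⟨c, hc, hQc, hcab⟩ := hex {u, b} (lt_of_le_of_lt Finset.card_le_two (by rw [hm, if_pos hq3]; norm_num))
      (by intro a ha; simp at ha; rcases ha with rfl | rfl <;> [exact ⟨huD, hu⟩; exact ⟨hb, hQb⟩])
      (by
        intro a ha d hd had
        simp at ha hd
        rcases ha with rfl | rfl <;> rcases hd with rfl | rfl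
        · exact absurd rfl had
        · exact hub'
        · rw [p_comm hQ]; exact hub'
        · exact absurd rfl had)
    obtain ⟨y, hy, hy0, hQy⟩ := exists_iso_of_three hQ h2 huD hb hc hu hQb hQc hub'
      (hcab u (by simp)) (hcab b (by simp))
    have horth := hDorth p s hps y hy z hzD
    have h1 := hmix p s hps y hy z hzD hQz hy0 (by
      rw [q_add hQ, hQy, horth, add_zero, zero_add]; exact hQz)
    have h3 : polar Q' y z = s * polar Q y z := hzD y
    rw [q_add hQ', hQ'D p y hy, hQy, hQ'D s z hzD, h3, horth, mul_zero, mul_zero, add_zero,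
      zero_add] at h1
    exact mul_ne_zero hs0 hQz h1
  · -- enough squares
    obtain ⟨c, hc0, hc1, hc2⟩ : ∃ c : F, c ≠ 0 ∧ c ^ 2 * Q w + Q v ≠ 0 ∧
        r * (c ^ 2 * Q w) + l * Q v ≠ 0 := by
      let p : Polynomial F := Polynomial.X *
        (Polynomial.X ^ 2 + Polynomial.C (Q v / Q w)) *
        (Polynomial.X ^ 2 + Polynomial.C (l * Q v / (r * Q w)))
      have hp : p.Monic := (Polynomial.monic_X.mul (Polynomial.monic_X_pow_add_C _ two_ne_zero)).mul
        (Polynomial.monic_X_pow_add_C _ two_ne_zero)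
      have hdeg : p.natDegree ≤ 5 := by simp only [p]; compute_degree
      by_contra hcc
      push Not at hcc
      refine hp.ne_zero (Polynomial.eq_zero_of_natDegree_lt_card_of_eval_eq_zero p
        (f := fun c : F => c) Function.injective_id (fun c => ?_) (by omega))
      simp only [p, Polynomial.eval_mul, Polynomial.eval_add, Polynomial.eval_pow,
        Polynomial.eval_X, Polynomial.eval_C]
      by_cases a1 : c = 0
      · rw [a1]; ring
      by_cases a2 : c ^ 2 * Q w + Q v = 0
      · have : c ^ 2 + Q v / Q w = 0 := by field_simp; linear_combination a2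
        rw [this]; ring
      · have : c ^ 2 + l * Q v / (r * Q w) = 0 := by
          field_simp
          linear_combination hcc c a1 a2
        rw [this]; ring
    have hcw : c • w ∈ D r := Submodule.smul_mem _ _ hwD
    have hv0 : v ≠ 0 := fun e => hv (by rw [e, q_zero hQ])
    have horth := hDorth l r hlr v hvD _ hcw
    have h1 := hmix l r hlr v hvD _ hcw (by rw [q_smul hQ]; exact mul_ne_zero (pow_ne_zero 2 hc0) hw)
      hv0 (by rw [q_add hQ, horth, q_smul hQ, add_zero, add_comm]; exact hc1)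
    have h3 : polar Q' v (c • w) = r * polar Q v (c • w) := hcw v
    rw [q_add hQ', hQ'D l v hvD, hQ'D r _ hcw, h3, horth, q_smul hQ] at h1
    exact hc2 (by linear_combination h1)

variable {M : Subgroup (GL ι F)}
  (hM : ∀ a b (ha : Q a ≠ 0) (hb : Q b ≠ 0), rfl' hQ h2 a ha * rfl' hQ h2 b hb ∈ M)
  (hM' : ∀ a b (ha : Q' a ≠ 0) (hb : Q' b ≠ 0), rfl' hQ' h2 a ha * rfl' hQ' h2 b hb ∈ M)
include hM hM'

/-- A transvection of `M`. -/
lemma exists_transvection (hne : ∀ l : F, ∃ x, Q' x ≠ l * Q x) :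
    ∃ v φ, Q v ≠ 0 ∧ φ ≠ 0 ∧ InTv M v φ := by
  obtain ⟨v, hv, hv', x, hx⟩ := exists_good_noneigen hQ hQ' h2 hn hne
  obtain ⟨w, cw, hw, hw'⟩ := exists_good_ker_half hQ hQ' h2 hn
    ![dv (polar Q) v, dv (polar Q') v] (by omega) 0 (v := v) rfl hv
  let δ : (ι → F) → ι → F := fun a =>
    (Q' a)⁻¹ • dv (polar Q') a - (Q a)⁻¹ • dv (polar Q) a
  have hδ : ∀ a y, δ a ⬝ᵥ y = polar Q' y a / Q' a - polar Q y a / Q a := by
    intro a y
    simp only [δ, sub_dotProduct, smul_dotProduct, qv_dot hQ, qv_dot hQ', smul_eq_mul,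
      div_eq_inv_mul]
  have hδ0 : ∀ a, Q a ≠ 0 → Q' a ≠ 0 → δ a ⬝ᵥ a = 0 := by
    intro a ha ha'
    rw [hδ, p_self hQ, p_self hQ', mul_div_assoc, mul_div_assoc, div_self ha', div_self ha,
      sub_self]
  -- the product of two of these transvections
  have hpair : ∀ a b (ha : Q a ≠ 0) (hb : Q b ≠ 0) (ha' : Q' a ≠ 0) (hb' : Q' b ≠ 0),
      polar Q a b = 0 → polar Q' a b = 0 → ∃ g ∈ M, ∀ y,
        (g : Matrix ι ι F) *ᵥ y = y + (δ a ⬝ᵥ y) • a + (δ b ⬝ᵥ y) • b := by
    intro a b ha hb ha' hb' hab hab'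
    refine ⟨rfl' hQ h2 a ha * rfl' hQ h2 b hb * (rfl' hQ' h2 b hb' * rfl' hQ' h2 a ha'),
      M.mul_mem (hM a b ha hb) (hM' b a hb' ha'), fun y => ?_⟩
    rw [mul_mulVec, mul_mulVec, mul_mulVec, rfl'_mulVec, rfl'_mulVec, rfl'_mulVec, rfl'_mulVec,
      hδ, hδ]
    simp only [p_sub_left hQ, p_smul_left hQ, p_sub_left hQ', p_smul_left hQ', p_self hQ,
      p_self hQ', hab, hab', p_comm hQ b a, p_comm hQ' b a]
    ext i
    simp only [Pi.add_apply, Pi.sub_apply, Pi.smul_apply, smul_eq_mul]
    field_simp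
    ring
  have p : ∀ {a z : ι → F}, dv (polar Q) a ⬝ᵥ z = 0 → polar Q a z = 0 := fun {a z} h => by
    rw [p_comm hQ, ← qv_dot hQ]; exact h
  have p' : ∀ {a z : ι → F}, dv (polar Q') a ⬝ᵥ z = 0 → polar Q' a z = 0 := fun {a z} h => by
    rw [p_comm hQ', ← qv_dot hQ']; exact h
  have avw := p (cw 0)
  have avw' := p' (cw 1)
  obtain ⟨g, hg, e⟩ := hpair v w hv hw hv' hw' avw avw'
  have zvw : δ v ⬝ᵥ w = 0 := by rw [hδ, p_comm hQ w v, p_comm hQ' w v, avw, avw']; simp
  have zwv : δ w ⬝ᵥ v = 0 := by rw [hδ, avw, avw']; simp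
  have h0v := hδ0 v hv hv'
  obtain ⟨dw, hdw⟩ := exists_qv hQ (δ w)
  obtain ⟨b₀, cb₀, hb₀⟩ := exists_aniso_ker_half hQ h2 ![dv (polar Q) v, dv (polar Q) w, δ w]
    (by omega) 0 (v := v) rfl hv
  -- an auxiliary vector, not a multiple of the one of `δ v`
  obtain ⟨b, hbv, hbw, hbδ, hb, x₁, hx₁⟩ : ∃ b, polar Q v b = 0 ∧ polar Q w b = 0 ∧ δ w ⬝ᵥ b = 0 ∧
      Q b ≠ 0 ∧ ∃ x₁, 2 * (δ v ⬝ᵥ x₁) - (δ v ⬝ᵥ b) / Q b * polar Q x₁ b ≠ 0 := by
    have hb₀v := p (cb₀ 0)
    have hb₀w := p (cb₀ 1)
    by_contra hcon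
    push Not at hcon
    have hall : ∀ b, polar Q v b = 0 → polar Q w b = 0 → δ w ⬝ᵥ b = 0 → Q b ≠ 0 →
        ∀ x, 2 * (δ v ⬝ᵥ x) = (δ v ⬝ᵥ b) / Q b * polar Q x b := fun b a1 a2 a3 a4 x =>
      sub_eq_zero.1 (hcon b a1 a2 a3 a4 x)
    -- two independent ones
    obtain ⟨y, hy, hy₀⟩ : ∃ y, (∀ j, ![dv (polar Q) v, dv (polar Q) w, δ w] j ⬝ᵥ y = 0) ∧
        ∀ t : F, y ≠ t • b₀ := by
      let L : (ι → F) →ₗ[F] (Fin 3 → F) :=
        { toFun := fun z j => ![dv (polar Q) v, dv (polar Q) w, δ w] j ⬝ᵥ z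
          map_add' := fun a b => funext fun j => dotProduct_add _ _ _
          map_smul' := fun c a => funext fun j => by simp [dotProduct_smul] }
      by_contra hcy
      push Not at hcy
      have hle : LinearMap.ker L ≤ Submodule.span F {b₀} := fun z hz => by
        obtain ⟨t, rfl⟩ := hcy z (congrFun (LinearMap.mem_ker.1 hz))
        exact Submodule.smul_mem _ _ (Submodule.mem_span_singleton_self _)
      have k1 := Submodule.finrank_mono hle
      rw [finrank_span_singleton (fun e => hb₀ (by rw [e, q_zero hQ]))] at k1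
      have k2 := LinearMap.finrank_range_add_finrank_ker L
      have k3 := Submodule.finrank_le (LinearMap.range L)
      rw [Module.finrank_fin_fun] at k3
      rw [Module.finrank_fintype_fun_eq_card] at k2
      omega
    obtain ⟨b₁, hb₁v, hb₁w, hb₁δ, hb₁, hb₁n⟩ : ∃ b₁, polar Q v b₁ = 0 ∧ polar Q w b₁ = 0 ∧
        δ w ⬝ᵥ b₁ = 0 ∧ Q b₁ ≠ 0 ∧ ∀ t : F, b₁ ≠ t • b₀ := by
      obtain ⟨s, hs⟩ : ∃ s : F, Q (y + s • b₀) ≠ 0 := by
        by_contra hc
        push Not at hc
        have k1 := hc 1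
        have k2 := hc (-1)
        have k3 := hc 0
        rw [zero_smul, add_zero] at k3
        rw [q_add hQ, q_smul hQ, p_smul_right hQ, k3] at k1 k2
        have : (2 : F) * Q b₀ = 0 := by linear_combination k1 + k2
        exact hb₀ ((mul_eq_zero.1 this).resolve_left h2)
      refine ⟨y + s • b₀, by rw [p_add_right hQ, p_smul_right hQ, p (hy 0), hb₀v]; ring,
        by rw [p_add_right hQ, p_smul_right hQ, p (hy 1), hb₀w]; ring, ?_, hs,
        fun t ht => hy₀ (t - s) (by rw [sub_smul, ← ht, add_sub_cancel_right])⟩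
      have k1 : δ w ⬝ᵥ y = 0 := hy 2
      have k2 : δ w ⬝ᵥ b₀ = 0 := cb₀ 2
      rw [dotProduct_add, dotProduct_smul, k1, k2, smul_zero, add_zero]
    set k₀ := (δ v ⬝ᵥ b₀) / Q b₀
    set k₁ := (δ v ⬝ᵥ b₁) / Q b₁
    have heq : ∀ x, polar Q x (k₁ • b₁ - k₀ • b₀) = 0 := fun x => by
      rw [p_sub_right hQ, p_smul_right hQ, p_smul_right hQ, ← hall b₁ hb₁v hb₁w hb₁δ hb₁ x,
        ← hall b₀ hb₀v hb₀w (cb₀ 2) hb₀ x, sub_self]
    have hz : k₁ • b₁ - k₀ • b₀ = 0 := by
      by_contra hne'
      obtain ⟨⟨x, hx'⟩, -⟩ := hQ.nondegenerate _ hne'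
      exact hx' (heq x)
    have hk₁ : k₁ = 0 := by
      by_contra hk
      apply hb₁n (k₁⁻¹ * k₀)
      rw [mul_smul, ← sub_eq_zero.1 hz, inv_smul_smul₀ hk]
    apply hx
    have := hall b₁ hb₁v hb₁w hb₁δ hb₁ x
    rw [show (δ v ⬝ᵥ b₁) / Q b₁ = k₁ from rfl, hk₁, zero_mul, mul_eq_zero] at this
    rw [← sub_eq_zero, ← hδ]
    exact this.resolve_left h2
  -- conjugating the pair by two reflections
  set H := rfl' hQ h2 v hv * rfl' hQ h2 b hb with hH
  have hHM : H ∈ M := hM v b hv hb
  have hHval : ∀ y, (H : Matrix ι ι F) *ᵥ y = y - (polar Q y b / Q b) • b - (polar Q y v / Q v) • v := by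
    intro y
    rw [hH, mul_mulVec, rfl'_mulVec, rfl'_mulVec, p_sub_left hQ, p_smul_left hQ, p_comm hQ b v, hbv,
      mul_zero, sub_zero]
  let φ : ι → F := (2 : F) • δ v - ((δ v ⬝ᵥ b) / Q b) • dv (polar Q) b
  have hφx : ∀ y, φ ⬝ᵥ y = 2 * (δ v ⬝ᵥ y) - (δ v ⬝ᵥ b) / Q b * polar Q y b := fun y => by
    simp only [φ, sub_dotProduct, smul_dotProduct, qv_dot hQ, smul_eq_mul]
  refine ⟨v, φ, hv, fun e' => hx₁ (by rw [← hφx, e', zero_dotProduct]),
    by rw [hφx, h0v, hbv]; ring, ?_⟩
  have h0φ : φ ⬝ᵥ v = 0 := by rw [hφx, h0v, hbv]; ring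
  convert M.mul_mem hg (M.mul_mem (M.mul_mem hHM (M.inv_mem hg)) (M.inv_mem hHM)) using 1
  suffices tv v φ h0φ * (H * g) = g * H by
    calc tv v φ h0φ = g * H * (H * g)⁻¹ := by rw [← this, mul_inv_cancel_right]
      _ = g * (H * g⁻¹ * H⁻¹) := by group
  refine gl_ext fun y => ?_
  have q1 : polar Q w v = 0 := by rw [p_comm hQ]; exact avw
  have q2 : polar Q w b = 0 := hbw
  have q3 : polar Q b v = 0 := by rw [p_comm hQ]; exact hbv
  have h22 : polar Q v v = 2 * Q v := p_self hQ v
  have h0w := hδ0 w hw hw'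
  simp only [mul_mulVec, tv_mulVec, e, hHval, hφx, dotProduct_add, dotProduct_sub, dotProduct_smul,
    p_add_left hQ, p_sub_left hQ, p_smul_left hQ, h0v, zvw, zwv, h0w, hbδ, hbv, q1, q2, h22, p_self hQ b, smul_eq_mul]
  ext i
  simp only [Pi.add_apply, Pi.sub_apply, Pi.smul_apply, smul_eq_mul]
  field_simp
  ring

/-- Main result. -/
theorem specialLinear_le_of_two_forms (hne : ∀ l : F, ∃ x, Q' x ≠ l * Q x)
    (hsg : ∀ e c (he : Q e = 0) (hec : polar Q e c = 0), sg hQ e c he hec ∈ M) :
    Geo.specialLinear ι F ≤ M := by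
  obtain ⟨v, φ, hv, hφ, hT⟩ := exists_transvection hQ hQ' h2 hn hM hM' hne
  have hn7 : 6 ≤ Fintype.card ι := hn
  have h22 : polar Q v v ≠ 0 := by rw [p_self hQ]; exact mul_ne_zero h2 hv
  obtain ⟨u₀, rfl⟩ := exists_qv hQ φ
  have hu₀v : polar Q u₀ v = 0 := by
    rw [p_comm hQ, ← qv_dot hQ]; exact hT.1
  -- the Siegel transformations fixing `v` move the covector
  have hmove : ∀ u e c, InTv M v (dv (polar Q) u) → Q e = 0 → polar Q e v = 0 → polar Q e c = 0 →
      polar Q c v = 0 →
      InTv M v (dv (polar Q) (polar Q u e • c - (polar Q u c + Q c * polar Q u e) • e)) := by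
    intro u e c hu he hev hec hcv
    have h1 := hu.conj (hsg e c he hec)
    rw [sg_mulVec, p_comm hQ v e, hev, p_comm hQ v c, hcv] at h1
    simp only [zero_smul, zero_add, add_zero, mul_zero, sub_zero] at h1
    rw [vecMul_inv_eq (ψ := dv (polar Q) (u + polar Q u e • c -
      (polar Q u c + Q c * polar Q u e) • e)) fun x => ?_] at h1
    · have h3 := h1.sub_right hu
      rwa [add_sub_assoc, qv_add hQ, add_sub_cancel_left] at h3
    · rw [qv_dot hQ, qv_dot hQ, sg_mulVec]
      simp only [p_sub_left hQ, p_sub_right hQ, p_add_left hQ, p_add_right hQ, p_smul_left hQ,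
        p_smul_right hQ, p_self hQ, he, hec, p_comm hQ c e, p_comm hQ u, p_comm hQ c x,
        p_comm hQ e x]
      ring
  have hlin : ∀ u e c, InTv M v (dv (polar Q) u) → Q e = 0 → polar Q e v = 0 → polar Q e c = 0 →
      polar Q c v = 0 → InTv M v (dv (polar Q) (polar Q u e • c - polar Q u c • e)) ∧
        InTv M v (dv (polar Q) ((Q c * polar Q u e) • e)) := by
    intro u e c hu he hev hec hcv
    have key : ∀ c, polar Q e c = 0 → polar Q c v = 0 →
        InTv M v (dv (polar Q) (polar Q u e • c - polar Q u c • e)) := by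
      intro c hec hcv
      set c' := (2 : F)⁻¹ • c with hc'
      have a1 := hmove u e c' hu he hev (by rw [hc', p_smul_right hQ, hec, mul_zero])
        (by rw [hc', p_smul_left hQ, hcv, mul_zero])
      have a2 := hmove u e (-c') hu he hev
        (by rw [p_neg_right hQ, hc', p_smul_right hQ, hec, mul_zero, neg_zero])
        (by rw [p_neg_left hQ, hc', p_smul_left hQ, hcv, mul_zero, neg_zero])
      have a3 := a1.sub_right a2
      convert a3 using 1
      rw [q_neg hQ, p_neg_right hQ, hc', p_smul_right hQ]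
      ext i
      simp only [dv, Pi.sub_apply, p_sub_right hQ, p_smul_right hQ, p_neg_right hQ]
      field_simp
      ring
    refine ⟨key c hec hcv, ?_⟩
    have a1 := (key c hec hcv).sub_right (hmove u e c hu he hev hec hcv)
    convert a1 using 1
    ext i
    simp only [dv, Pi.sub_apply, p_sub_right hQ, p_smul_right hQ]
    ring
  -- the whole line of the isotropic vector and the hyperplane it determines
  have hplane : ∀ u e, InTv M v (dv (polar Q) u) → Q e = 0 → polar Q e v = 0 →
      polar Q u e ≠ 0 → ∀ c, polar Q e c = 0 → polar Q c v = 0 → InTv M v (dv (polar Q) c) := by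
    intro u e hu he hev hue c hec hcv
    obtain ⟨h, hh, hh'⟩ := exists_aniso_ker hQ h2 ![dv (polar Q) e, dv (polar Q) v] (by omega)
    have hhe : polar Q e h = 0 := by rw [p_comm hQ, ← qv_dot hQ]; exact hh 0
    have hhv : polar Q h v = 0 := by rw [← qv_dot hQ]; exact hh 1
    have hline : ∀ t : F, InTv M v (dv (polar Q) (t • e)) := by
      intro t
      -- the polarisation of the quadratic part
      set k := t / (2 * Q h * polar Q u e) with hk
      have a1 := (hlin u e (k • h + h) hu he hev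
        (by rw [p_add_right hQ, p_smul_right hQ, hhe]; ring)
        (by rw [p_add_left hQ, p_smul_left hQ, hhv]; ring)).2
      have a2 := (hlin u e (k • h) hu he hev (by rw [p_smul_right hQ, hhe]; ring)
        (by rw [p_smul_left hQ, hhv]; ring)).2
      have a3 := (hlin u e h hu he hev hhe hhv).2
      have a4 := (a1.sub_right a2).sub_right a3
      convert a4 using 1
      ext i
      simp only [dv, Pi.sub_apply, p_smul_right hQ, q_add hQ, q_smul hQ, p_smul_left hQ, p_self hQ]
      rw [hk]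
      field_simp
      ring
    have a1 := (hlin u e ((polar Q u e)⁻¹ • c) hu he hev (by rw [p_smul_right hQ, hec, mul_zero])
      (by rw [p_smul_left hQ, hcv, mul_zero])).1
    have a2 := a1.add_right (hline (polar Q u ((polar Q u e)⁻¹ • c)))
    convert a2 using 1
    rw [smul_smul, mul_inv_cancel₀ hue, one_smul, ← qv_add hQ, sub_add_cancel]
  obtain ⟨e, he, hev, hue⟩ := exists_iso_nonorth hQ h2 hn7 (Or.inr hv) (u := u₀) (v := v) (by
    by_contra hc
    push Not at hc
    apply hφ
    refine dotProduct_eq _ _ fun y => ?_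
    rw [qv_dot hQ, zero_dotProduct, p_comm hQ]
    have := hc (y - (polar Q y v / polar Q v v) • v)
      (by rw [p_sub_left hQ, p_smul_left hQ, div_mul_cancel₀ _ h22, sub_self])
    rwa [p_sub_right hQ, p_smul_right hQ, hu₀v, mul_zero, sub_zero] at this)
  have he0 : e ≠ 0 := fun e' => hue (by rw [e', p_zero_right hQ])
  obtain ⟨f, hf, hfv, hef⟩ : ∃ f, Q f = 0 ∧ polar Q f v = 0 ∧ polar Q e f ≠ 0 := by
    refine exists_iso_nonorth hQ h2 hn7 (Or.inr hv) ?_
    obtain ⟨-, y, hy⟩ := hQ.nondegenerate e he0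
    refine ⟨y - (polar Q y v / polar Q v v) • v,
      by rw [p_sub_left hQ, p_smul_left hQ, div_mul_cancel₀ _ h22, sub_self], ?_⟩
    rwa [p_sub_right hQ, p_smul_right hQ, hev, mul_zero, sub_zero]
  have heM : InTv M v (dv (polar Q) e) :=
    hplane u₀ e hT he hev hue e (by rw [p_self hQ, he, mul_zero]) hev
  have hall : ∀ c, polar Q c v = 0 → InTv M v (dv (polar Q) c) := by
    intro c hcv
    set t := polar Q e c / polar Q e f
    have a1 := hplane u₀ e hT he hev hue (c - t • f)
      (by rw [p_sub_right hQ, p_smul_right hQ, div_mul_cancel₀ _ hef, sub_self])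
      (by rw [p_sub_left hQ, p_smul_left hQ, hcv, hfv, mul_zero, sub_zero])
    have a2 := hplane e f heM hf hfv hef (t • f)
      (by rw [p_smul_right hQ, p_self hQ, hf, mul_zero, mul_zero])
      (by rw [p_smul_left hQ, hfv, mul_zero])
    have a3 := a1.add_right a2
    rwa [← qv_add hQ, sub_add_cancel] at a3
  have hvfan : v ∈ fan M := by
    intro φ hφ'
    obtain ⟨c, rfl⟩ := exists_qv hQ φ
    rw [qv_dot hQ, p_comm hQ] at hφ'
    exact hall c hφ'
  -- the fan is everything
  obtain ⟨d, hd, -, hvd⟩ := exists_iso_nonorth hQ h2 hn7 (Or.inl rfl) (u := v) (v := (0 : ι → F))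
    ⟨v, p_zero_right hQ v, h22⟩
  have hmove' : ∀ c, polar Q d c = 0 →
      polar Q v d • c - (polar Q v c + Q c * polar Q v d) • d ∈ fan M := by
    intro c hdc
    have := (fan M).sub_mem (mulVec_mem_fan (hsg d c hd hdc) hvfan) hvfan
    rwa [sg_mulVec, add_sub_assoc, add_sub_cancel_left] at this
  have hL : ∀ c, polar Q d c = 0 → polar Q v d • c - polar Q v c • d ∈ fan M ∧
      (Q c * polar Q v d) • d ∈ fan M := by
    intro c hdc
    have key : ∀ c, polar Q d c = 0 → polar Q v d • c - polar Q v c • d ∈ fan M := by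
      intro c hdc
      have a1 := hmove' ((2 : F)⁻¹ • c) (by rw [p_smul_right hQ, hdc, mul_zero])
      have a2 := hmove' (-((2 : F)⁻¹ • c))
        (by rw [p_neg_right hQ, p_smul_right hQ, hdc, mul_zero, neg_zero])
      have a3 := (fan M).sub_mem a1 a2
      rw [q_neg hQ, p_neg_right hQ, p_smul_right hQ] at a3
      convert a3 using 1
      ext i
      simp only [Pi.sub_apply, Pi.smul_apply, Pi.neg_apply, smul_eq_mul]
      field_simp
      ring
    refine ⟨key c hdc, ?_⟩
    have := (fan M).sub_mem (key c hdc) (hmove' c hdc)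
    convert this using 1
    ext i
    simp only [Pi.sub_apply, Pi.smul_apply, smul_eq_mul]
    ring
  obtain ⟨h, hh, hh'⟩ := exists_aniso_ker hQ h2 ![dv (polar Q) d] (by omega)
  have hhd : polar Q d h = 0 := by rw [p_comm hQ, ← qv_dot hQ]; exact hh 0
  have hdfan : d ∈ fan M := by
    have := (fan M).smul_mem (Q h * polar Q v d)⁻¹ (hL h hhd).2
    rwa [smul_smul, inv_mul_cancel₀ (mul_ne_zero hh' hvd), one_smul] at this
  have hperp : ∀ c, polar Q d c = 0 → c ∈ fan M := by
    intro c hdc
    have := (fan M).smul_mem (polar Q v d)⁻¹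
      ((fan M).add_mem (hL c hdc).1 ((fan M).smul_mem (polar Q v c) hdfan))
    rwa [sub_add_cancel, smul_smul, inv_mul_cancel₀ hvd, one_smul] at this
  refine specialLinear_le_of_fan (eq_top_iff.2 fun y _ => ?_)
  set t := polar Q d y / polar Q d v
  have hdv : polar Q d v ≠ 0 := by rw [p_comm hQ]; exact hvd
  have := (fan M).add_mem (hperp (y - t • v)
    (by rw [p_sub_right hQ, p_smul_right hQ, div_mul_cancel₀ _ hdv, sub_self]))
    ((fan M).smul_mem t hvfan)
  rwa [sub_add_cancel] at this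

end Cfsg.Agent.H57.SLSmall
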