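import Cfsg.Agent.H98.TensorGL.Main

/-!
The shifting argument for `F^2 ⊗ F^3`, where the last step of the general proof does not apply.
-/

set_option autoImplicit false

namespace Cfsg.Agent.H57.SLSmall

open Module Matrix Cfsg.Agent.H98.ExtField Cfsg.Agent.H98.TensorGL

variable {F : Type*} [Field F] {M : Subgroup (Module.End F (T F 2 3))ˣ}
  {g : (Module.End F (T F 2 3))ˣ} {v₀ v₁ : Fin 3 → F}

/-- Two vectors `w`, `c` of `F^2` with a dual pair. -/
theorem exists_basis_two {w : Fin 2 → F} (hw : w ≠ 0) :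
    ∃ c ψ η : Fin 2 → F, ψ ⬝ᵥ w = 0 ∧ ψ ⬝ᵥ c = 1 ∧ η ⬝ᵥ w = 1 ∧ η ⬝ᵥ c = 0 ∧
      ∀ z, z = (η ⬝ᵥ z) • w + (ψ ⬝ᵥ z) • c := by
  rcases eq_or_ne (w 0) 0 with h0 | h0
  · have h1 : w 1 ≠ 0 := fun h1 => hw (funext fun i => by fin_cases i <;> simpa)
    refine ⟨![1, 0], ![1, 0], ![0, (w 1)⁻¹], by simp [dotProduct, Fin.sum_univ_two, h0],
      by simp [dotProduct, Fin.sum_univ_two], by simp [dotProduct, Fin.sum_univ_two, h1],
      by simp [dotProduct, Fin.sum_univ_two], fun z => funext fun i => ?_⟩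
    fin_cases i <;> simp [dotProduct, Fin.sum_univ_two, h0] <;> field_simp
  · refine ⟨![0, 1], ![-(w 1) / w 0, 1], ![(w 0)⁻¹, 0],
      by simp [dotProduct, Fin.sum_univ_two]; field_simp; ring,
      by simp [dotProduct, Fin.sum_univ_two], by simp [dotProduct, Fin.sum_univ_two, h0],
      by simp [dotProduct, Fin.sum_univ_two], fun z => funext fun i => ?_⟩
    fin_cases i <;> simp [dotProduct, Fin.sum_univ_two] <;> field_simp <;> ring

/-- The last step: the intersection is a line and `v₁` with the rows of `p` form a basis. -/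
theorem endpoint_two (hM : Ov M) (hg : g ∈ M) (hv₀ : v₀ ≠ 0) (hv₁ : v₁ ≠ 0) {u : Fin 2 → F}
    (hu : (g : Module.End F (T F 2 3)) (pure v₀ u) ∉ LinearMap.range (pure v₁))
    (hd : finrank F (coeff ((g : Module.End F (T F 2 3)) ∘ₗ pure v₀) v₁) = 1)
    (hinj : ∀ φ : Dual F (Fin 3 → F), ev φ ((g : Module.End F (T F 2 3)) (pure v₀ u)) = 0 →
      φ v₁ = 0 → φ = 0) :
    HasNonScalar M := by
  by_contra hns
  set Y := (g : Module.End F (T F 2 3)) ∘ₗ pure v₀ with hY
  set W := coeff Y v₁ with hW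
  set p := (g : Module.End F (T F 2 3)) (pure v₀ u) with hp
  have hYinj : Function.Injective Y := injective_image g hv₀
  have hWtop : W ≠ ⊤ := fun h => by rw [h, finrank_top, finrank_fin_fun] at hd; omega
  obtain ⟨w, hwW, hw0⟩ : ∃ w ∈ W, w ≠ 0 := Submodule.exists_mem_ne_zero_of_ne_bot fun h => by
    rw [h, finrank_bot] at hd; omega
  obtain ⟨c, ψ, η, hψw, hψc, hηw, hηc, hdec⟩ := exists_basis_two hw0
  let f : Dual F (Fin 3 → F) →ₗ[F] (Fin 2 → F) × F :=
    { toFun := fun φ => (ev φ p, φ v₁)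
      map_add' := fun φ χ => rfl
      map_smul' := fun r φ => rfl }
  have hsurj : Function.Surjective f :=
    (LinearMap.injective_iff_surjective_of_finrank_eq_finrank
      (by rw [Subspace.dual_finrank_eq, finrank_prod, finrank_fin_fun, finrank_fin_fun, finrank_self])).1
      ((injective_iff_map_eq_zero _).2 fun φ hφ => hinj φ (congrArg Prod.fst hφ) (congrArg Prod.snd hφ))
  obtain ⟨φ₂, hφ₂⟩ := hsurj (w, 0)
  obtain ⟨φ₃, hφ₃⟩ := hsurj (c, 0)
  obtain ⟨φ₁, hφ₁⟩ := hsurj (0, 1)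
  have e2p : ev φ₂ p = w := congrArg Prod.fst hφ₂
  have e2v : φ₂ v₁ = 0 := congrArg Prod.snd hφ₂
  have e3p : ev φ₃ p = c := congrArg Prod.fst hφ₃
  have e3v : φ₃ v₁ = 0 := congrArg Prod.snd hφ₃
  have e1p : ev φ₁ p = 0 := congrArg Prod.fst hφ₁
  have e1v : φ₁ v₁ = 1 := congrArg Prod.snd hφ₁
  set f₂ : Fin 3 → F := ∑ k, η k • p k with hf₂
  set f₃ : Fin 3 → F := ∑ k, ψ k • p k with hf₃
  have hcomb : ∀ (φ : Dual F (Fin 3 → F)) (θ : Fin 2 → F) (x : T F 2 3),
      φ (∑ k, θ k • x k) = θ ⬝ᵥ ev φ x := fun φ θ x => by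
    simp [dotProduct, map_sum, map_smul]
  have a22 : φ₂ f₂ = 1 := by rw [hf₂, hcomb, e2p, hηw]
  have a23 : φ₂ f₃ = 0 := by rw [hf₃, hcomb, e2p, hψw]
  have a33 : φ₃ f₃ = 1 := by rw [hf₃, hcomb, e3p, hψc]
  have hbasis : ∀ v, v = φ₁ v • v₁ + φ₂ v • f₂ + φ₃ v • f₃ := fun v => by
    refine sub_eq_zero.1 ((Module.forall_dual_apply_eq_zero_iff F _).1 fun χ => ?_)
    have hχ : χ = χ v₁ • φ₁ + χ f₂ • φ₂ + χ f₃ • φ₃ := by
      refine sub_eq_zero.1 (hinj _ ?_ ?_)
      · funext i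
        have h := congrFun (hdec (ev χ p)) i
        have h1 := congrFun e1p i
        have h2 := congrFun e2p i
        have h3 := congrFun e3p i
        simp only [ev_apply, Pi.zero_apply, Pi.add_apply, Pi.smul_apply, smul_eq_mul] at h h1 h2 h3
        simp only [ev_apply, Pi.zero_apply, LinearMap.sub_apply, LinearMap.add_apply, LinearMap.smul_apply,
          smul_eq_mul, h1, h2, h3, hf₂, hf₃, hcomb]
        linear_combination h
      · simp [e1v, e2v, e3v]
    have := LinearMap.congr_fun hχ v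
    simp only [LinearMap.add_apply, LinearMap.smul_apply, smul_eq_mul] at this
    simp only [map_sub, map_add, map_smul, smul_eq_mul]
    linear_combination this
  -- the image and the family of square-zero maps
  set q : T F 2 3 := pure v₁ w with hq
  have hspanY : ∀ m ∈ LinearMap.range Y, ∃ r s : F, m = r • q + s • p := by
    intro m hm
    have hqY : q ∈ LinearMap.range Y := hwW
    have hle : Submodule.span F {q} ⊔ Submodule.span F {p} ≤ LinearMap.range Y :=
      sup_le ((Submodule.span_singleton_le_iff_mem _ _).2 hqY)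
        ((Submodule.span_singleton_le_iff_mem _ _).2 ⟨u, rfl⟩)
    have heq : Submodule.span F {q} ⊔ Submodule.span F {p} = LinearMap.range Y := by
      refine Submodule.eq_of_le_of_finrank_le hle ?_
      have hlt : Submodule.span F {q} < Submodule.span F {q} ⊔ Submodule.span F {p} :=
        left_lt_sup.2 fun h => hu (by
          obtain ⟨r, hr⟩ := Submodule.mem_span_singleton.1 (h (Submodule.mem_span_singleton_self p))
          exact ⟨r • w, by rw [map_smul]; exact hr⟩)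
      have h1 := Submodule.finrank_lt_finrank_of_lt hlt
      rw [finrank_span_singleton (fun h => hw0 (pure_injective hv₁ (by rw [map_zero]; exact h)))] at h1
      rw [LinearMap.finrank_range_of_inj hYinj, finrank_fin_fun]
      omega
    obtain ⟨x, hx, y, hy, rfl⟩ := Submodule.mem_sup.1 (heq.ge hm)
    obtain ⟨r, rfl⟩ := Submodule.mem_span_singleton.1 hx
    obtain ⟨s, rfl⟩ := Submodule.mem_span_singleton.1 hy
    exact ⟨r, s, rfl⟩
  obtain ⟨u₂, hu₂⟩ : ∃ u₂, Y u₂ = q := LinearMap.mem_range.1 hwW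
  let gi : Module.End F (T F 2 3) := ((g⁻¹ : (Module.End F (T F 2 3))ˣ) : Module.End F (T F 2 3))
  obtain ⟨φ₀, t, hφ₀, hφ₀0, hNc⟩ : ∃ (φ₀ : Dual F (Fin 3 → F)) (t : F), φ₀ ≠ 0 ∧ φ₀ v₀ = 0 ∧
      ev φ₀ (gi (pure v₁ c)) = t • u₂ := by
    let f : (Dual F (Fin 3 → F) × F) →ₗ[F] F × (Fin 2 → F) :=
      { toFun := fun x => (x.1 v₀, ev x.1 (gi (pure v₁ c)) - x.2 • u₂)
        map_add' := fun x y => Prod.ext (by simp) (funext fun i => by simp [add_smul]; abel)
        map_smul' := fun r x => Prod.ext (by simp) (funext fun i => by simp [mul_sub, mul_assoc]) }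
    obtain ⟨⟨φ₀, t⟩, hx, hx0⟩ := Submodule.exists_mem_ne_zero_of_ne_bot
      (LinearMap.ker_ne_bot_of_finrank_lt (f := f)
        (by rw [finrank_prod, finrank_prod, finrank_self, Subspace.dual_finrank_eq, finrank_fin_fun,
              finrank_fin_fun]; omega))
    refine ⟨φ₀, t, fun h => ?_, congrArg Prod.fst hx, sub_eq_zero.1 (congrArg Prod.snd hx)⟩
    subst h
    have h2 := congrArg Prod.snd hx
    simp only [f, LinearMap.coe_mk, AddHom.coe_mk, Prod.snd_zero] at h2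
    rw [show ev (0 : Dual F (Fin 3 → F)) (gi (pure v₁ c)) = 0 from funext fun i => rfl, zero_sub, neg_eq_zero,
      smul_eq_zero] at h2
    rcases h2 with rfl | h2
    · exact hx0 rfl
    · rw [h2, map_zero] at hu₂
      exact hw0 (pure_injective hv₁ (by rw [map_zero]; exact hu₂.symm))
  set N : Module.End F (T F 2 3) := Y ∘ₗ ev φ₀ ∘ₗ gi with hN
  have hmnN : MN M N := mn_family hM hg φ₀ hφ₀0
  have hNY : ∀ x, N (Y x) = 0 := fun x => by
    show Y (ev φ₀ (gi ((g : Module.End F (T F 2 3)) (pure v₀ x)))) = 0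
    rw [inv_apply_apply, ev_pure, hφ₀0, zero_smul, map_zero]
  have hNq : N q = 0 := by rw [← hu₂]; exact hNY u₂
  have hNp : N p = 0 := hNY u
  have hNc' : N (pure v₁ c) = t • q := by
    show Y (ev φ₀ (gi (pure v₁ c))) = _
    rw [hNc, map_smul, hu₂]
  -- first commutator
  set A : Module.End F (T F 2 3) := te 1 v₁ φ₂ with hA
  have hA' : ∀ m, A m = pure v₁ (ev φ₂ m) := te_one_apply v₁ φ₂
  have hAq : A q = 0 := by rw [hA', hq, ev_pure, e2v, zero_smul, map_zero]
  have hAp : A p = q := by rw [hA', e2p]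
  have hAN : ∀ x, ∃ s : F, A (N x) = s • q ∧ ∃ r : F, N x = r • q + s • p := fun x => by
    obtain ⟨r, s, he⟩ := hspanY (N x) ⟨_, rfl⟩
    exact ⟨s, by rw [he, map_add, map_smul, map_smul, hAp, hAq, smul_zero, zero_add], r, he⟩
  have hNA : ∀ x, N (A x) = (t * (ψ ⬝ᵥ ev φ₂ x)) • q := fun x => by
    rw [hA', hdec (ev φ₂ x), map_add, map_smul, map_smul, map_add, map_smul, map_smul, ← hq, hNq, hNc',
      smul_zero, zero_add, smul_smul, ← hdec, mul_comm]
  have h1 : A * N * A = 0 := LinearMap.ext fun x => by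
    rw [Module.End.mul_apply, Module.End.mul_apply, hNA, map_smul, hAq, smul_zero, LinearMap.zero_apply]
  have h2 : N * A * N = 0 := LinearMap.ext fun x => by
    obtain ⟨s, hs, -⟩ := hAN x
    rw [Module.End.mul_apply, Module.End.mul_apply, hs, map_smul, hNq, smul_zero, LinearMap.zero_apply]
  have hC := MN.bracket (hM.right v₁ φ₂ e2v) hmnN h1 h2
  have hCW : LinearMap.range (A * N - N * A) ≤ W.map (pure v₁) := by
    rintro _ ⟨x, rfl⟩
    obtain ⟨s, hs, -⟩ := hAN x
    rw [LinearMap.sub_apply, Module.End.mul_apply, Module.End.mul_apply, hs, hNA]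
    exact Submodule.sub_mem _ (Submodule.smul_mem _ _ (Submodule.mem_map_of_mem hwW))
      (Submodule.smul_mem _ _ (Submodule.mem_map_of_mem hwW))
  have hC0 : A * N - N * A = 0 := by
    refine LinearMap.ext fun x => ?_
    rw [eq_sum_pure x, map_sum, LinearMap.zero_apply]
    refine Finset.sum_eq_zero fun j _ => ?_
    obtain ⟨φ', hφ', hv1', hv'⟩ := exists_dual_two (le_refl 3) v₁ (Pi.single j 1)
    have hev : ev φ' ∘ₗ (A * N - N * A) = 0 := LinearMap.ext fun x => by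
      obtain ⟨z, -, hz⟩ := hCW ⟨x, rfl⟩
      rw [LinearMap.comp_apply, ← hz, ev_pure, hv1', zero_smul, LinearMap.zero_apply]
    obtain ⟨s, hs⟩ := (hM.of_supp (le_refl 3) hC hφ' hev _ hv').resolve_left hns
    exact LinearMap.congr_fun (comp_pure_eq_zero hWtop hCW hs) _
  have hq0 : q ≠ 0 := fun h => hw0 (pure_injective hv₁ (by rw [map_zero]; exact h))
  have hNform : ∀ x, ∃ r : F, N x = r • q + (t * (ψ ⬝ᵥ ev φ₂ x)) • p := fun x => by
    obtain ⟨s, hs, r, hr⟩ := hAN x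
    have := LinearMap.congr_fun hC0 x
    rw [LinearMap.sub_apply, Module.End.mul_apply, Module.End.mul_apply, hs, hNA, LinearMap.zero_apply,
      ← sub_smul, smul_eq_zero, sub_eq_zero] at this
    exact ⟨r, by rw [hr, this.resolve_right hq0]⟩
  -- second commutator
  obtain ⟨-, hB, hBM, hBval⟩ := hM.left w ψ hψw
  set B : Module.End F (T F 2 3) := lt (vecMulVec w ψ) with hBdef
  have hB' : ∀ m, B m = pure (∑ k, ψ k • m k) w := lt_vecMulVec_apply w ψ
  have hBp : B p = pure f₃ w := hB' p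
  have hcp : ∀ (v : Fin 3 → F) (z : Fin 2 → F), ∑ k, ψ k • pure v z k = (ψ ⬝ᵥ z) • v := fun v z => by
    simp [dotProduct, smul_smul, add_smul]
  have hBw : ∀ v : Fin 3 → F, B (pure v w) = 0 := fun v => by
    rw [hB', hcp, hψw, zero_smul]
    exact funext fun i => by simp
  have hBq : B q = 0 := hBw v₁
  have hNw : ∀ v : Fin 3 → F, ∃ r : F, N (pure v w) = r • q := fun v => by
    obtain ⟨r, hr⟩ := hNform (pure v w)
    refine ⟨r, ?_⟩
    rw [hr, ev_pure, dotProduct_smul, hψw, smul_zero, mul_zero, zero_smul, add_zero]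
  obtain ⟨r₂, hr₂⟩ := hNw f₂
  obtain ⟨r₃, hr₃⟩ := hNw f₃
  have hBN : ∀ x, B (N x) = (t * (ψ ⬝ᵥ ev φ₂ x)) • pure f₃ w := fun x => by
    obtain ⟨r, hr⟩ := hNform x
    rw [hr, map_add, map_smul, map_smul, hBq, hBp, smul_zero, zero_add]
  set Z := B * N - N * B + N * B * N with hZ
  have hZapp : ∀ x, Z x = (t * (ψ ⬝ᵥ ev φ₂ x)) • pure f₃ w - N (B x) +
      (t * (ψ ⬝ᵥ ev φ₂ x) * r₃) • q := fun x => by
    rw [hZ, LinearMap.add_apply, LinearMap.sub_apply, Module.End.mul_apply, Module.End.mul_apply,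
      Module.End.mul_apply, Module.End.mul_apply, hBN, map_smul, hr₃, smul_smul]
  have hZw : ∀ v : Fin 3 → F, Z (pure v w) = 0 := fun v => by
    rw [hZapp, hBw, map_zero, ev_pure, dotProduct_smul, hψw, smul_zero, mul_zero, zero_mul, zero_smul, zero_smul,
      sub_zero, add_zero]
  have hNB : ∀ x, ∃ r : F, N (B x) = r • q := fun x => by rw [hB']; exact hNw _
  have hpsm : ∀ (r : F) (v : Fin 3 → F) (z : Fin 2 → F), pure (r • v) z = r • pure v z := fun r v z =>
    funext fun i => by simp [smul_smul, mul_comm]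
  have hpadd : ∀ (v v' : Fin 3 → F) (z : Fin 2 → F), pure (v + v') z = pure v z + pure v' z := fun v v' z =>
    funext fun i => by simp [smul_add]
  have hZrange : ∀ x, ∃ y, φ₂ y = 0 ∧ Z x = pure y w := fun x => by
    obtain ⟨r, hr⟩ := hNB x
    refine ⟨(t * (ψ ⬝ᵥ ev φ₂ x)) • f₃ + (t * (ψ ⬝ᵥ ev φ₂ x) * r₃ - r) • v₁, by simp [a23, e2v], ?_⟩
    rw [hZapp, hr, hpadd, hpsm, hpsm, ← hq, sub_smul]
    abel
  have hZ2 : Z * Z = 0 := LinearMap.ext fun x => by
    obtain ⟨y, -, hy⟩ := hZrange x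
    rw [Module.End.mul_apply, hy, hZw, LinearMap.zero_apply]
  have hmnZ : MN M Z := by
    obtain ⟨hN2, nu, hnu, hnuN⟩ := hmnN
    have hB2 : B * B = 0 := LinearMap.ext fun x => by
      rw [Module.End.mul_apply, hB' x, hBw, LinearMap.zero_apply]
    have hBNB : B * (N * B) = 0 := LinearMap.ext fun x => by
      obtain ⟨r, hr⟩ := hNB x
      rw [Module.End.mul_apply, Module.End.mul_apply, hr, map_smul, hBq, smul_zero, LinearMap.zero_apply]
    have zN : ∀ X : Module.End F (T F 2 3), N * (N * X) = 0 := fun X => by rw [← mul_assoc, hN2, zero_mul]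
    have zB : ∀ X : Module.End F (T F 2 3), B * (B * X) = 0 := fun X => by rw [← mul_assoc, hB2, zero_mul]
    have zBN : ∀ X : Module.End F (T F 2 3), B * (N * (B * X)) = 0 := fun X => by
      rw [← mul_assoc N, ← mul_assoc B, hBNB, zero_mul]
    refine ⟨hZ2, hB * nu * hB⁻¹ * nu⁻¹,
      M.mul_mem (M.mul_mem (M.mul_mem hBM hnu) (M.inv_mem hBM)) (M.inv_mem hnu), ?_⟩
    rw [Units.val_mul, Units.val_mul, Units.val_mul, coe_inv_of_eq hB2 hBval, coe_inv_of_eq hN2 hnuN, hBval,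
      hnuN, hZ]
    simp only [add_mul, mul_add, sub_mul, mul_sub, one_mul, mul_one, mul_assoc, hB2, hN2, hBNB, zN, zB, zBN,
      mul_zero, add_zero, sub_zero]
    abel
  have hsupp : ∀ {φ : Dual F (Fin 3 → F)}, φ ≠ 0 → (∀ x, ev φ (Z x) = 0) → ∀ v, φ v = 0 →
      Z (pure v c) = 0 := by
    intro φ hφ hk v hv
    obtain ⟨s, hs⟩ := (hM.of_supp (le_refl 3) hmnZ hφ (LinearMap.ext hk) v hv).resolve_left hns
    have hsc := LinearMap.congr_fun hs c
    rw [LinearMap.comp_apply] at hsc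
    obtain ⟨y, -, hy⟩ := hZrange (pure v c)
    have h0 : s = 0 := by
      have := congrArg (fun m : T F 2 3 => ∑ k, ψ k • m k) (hy.symm.trans hsc)
      simp only [hcp, hψw, hψc, zero_smul, one_smul] at this
      exact this.symm
    rw [hsc, h0]
    exact funext fun i => by simp
  have hφ₂ne : φ₂ ≠ 0 := fun h => by rw [h, LinearMap.zero_apply] at a22; exact zero_ne_one a22
  have hZf₃ : Z (pure f₃ c) = 0 := hsupp hφ₂ne (fun x => by
    obtain ⟨y, hy0, hy⟩ := hZrange x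
    rw [hy, ev_pure, hy0, zero_smul]) f₃ a23
  have hr₃0 : r₃ = 0 := by
    rw [hZapp, ev_pure, a23, zero_smul, dotProduct_zero, mul_zero, zero_mul, zero_smul, zero_smul, zero_sub,
      add_zero, neg_eq_zero, hB', hcp, hψc, one_smul, hr₃] at hZf₃
    exact (smul_eq_zero.1 hZf₃).resolve_right hq0
  -- now the image of the second commutator is a line
  set s₀ : Fin 3 → F := t • f₃ - r₂ • v₁ with hs₀
  have hZline : ∀ x, Z x = (ψ ⬝ᵥ ev φ₂ x) • pure s₀ w := fun x => by
    have hy := hB' x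
    set y := ∑ k, ψ k • x k with hyd
    have hφy : φ₂ y = ψ ⬝ᵥ ev φ₂ x := hcomb φ₂ ψ x
    rw [hZapp, hy, hr₃0, mul_zero, zero_smul, add_zero]
    conv_lhs => rw [hbasis y]
    rw [hpadd, hpadd, hpsm, hpsm, hpsm, map_add, map_add, map_smul, map_smul, map_smul, ← hq, hNq, hr₂, hr₃,
      hr₃0, zero_smul, smul_zero, smul_zero, zero_add, add_zero, hφy, hs₀, sub_eq_add_neg (t • f₃),
      hpadd, hpsm, ← neg_smul, hpsm, ← hq, smul_add, smul_smul, smul_smul, smul_smul, mul_comm t]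
    simp [sub_eq_add_neg]
  obtain ⟨χ, hχ0, hχs, hχf⟩ := exists_dual_two (le_refl 3) s₀ f₂
  have hZf₂ : Z (pure f₂ c) = 0 := hsupp hχ0 (fun x => by
    rw [hZline, map_smul, ev_pure, hχs, zero_smul, smul_zero]) f₂ hχf
  have ht : t = 0 := by
    rw [hZline, ev_pure, a22, one_smul, hψc, one_smul] at hZf₂
    have := congrArg (ev φ₃) hZf₂
    rw [ev_pure, map_zero, hs₀, map_sub, map_smul, map_smul, a33, e3v, smul_zero, sub_zero, smul_eq_mul,
      mul_one] at this
    exact (smul_eq_zero.1 this).resolve_right hw0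
  -- but the image of `N` is two-dimensional
  obtain ⟨v, hv⟩ : ∃ v, φ₀ v = 1 := by
    obtain ⟨v, hv⟩ := not_forall.1 fun hz => hφ₀ (LinearMap.ext hz)
    exact ⟨(φ₀ v)⁻¹ • v, by rw [map_smul, smul_eq_mul, inv_mul_cancel₀ hv]⟩
  set x := (g : Module.End F (T F 2 3)) (pure v u) with hx
  have hNx : N x = p := by
    show Y (ev φ₀ (gi ((g : Module.End F (T F 2 3)) (pure v u)))) = p
    rw [inv_apply_apply, ev_pure, hv, one_smul]
    rfl
  obtain ⟨r, hr⟩ := hNform x
  rw [hNx, ht, zero_mul, zero_smul, add_zero] at hr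
  exact hu ⟨r • w, by rw [map_smul]; exact hr.symm⟩

/-- An element of `M` that does not respect `F^2 ⊗ F^3` gives a non-scalar matrix in `InL`. -/
theorem hasNonScalar_two (hM : Ov M) : ∀ (k : ℕ) {g : (Module.End F (T F 2 3))ˣ} {v₀ v₁ : Fin 3 → F}, g ∈ M →
    v₀ ≠ 0 → v₁ ≠ 0 → NotPure ((g : Module.End F (T F 2 3)) ∘ₗ pure v₀) →
    2 ≤ finrank F (coeff ((g : Module.End F (T F 2 3)) ∘ₗ pure v₀) v₁) + k → HasNonScalar M := by
  have hb : (3 : ℕ) ≤ 3 := le_refl 3
  intro k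
  induction k with
  | zero =>
    intro g v₀ v₁ hg hv₀ hv₁ hnp hk
    have := finrank_coeff_lt hv₀ hv₁ hnp
    omega
  | succ k ih =>
    intro g v₀ v₁ hg hv₀ hv₁ hnp hk
    by_contra hns
    have hlt := finrank_coeff_lt hv₀ hv₁ hnp
    set Y := (g : Module.End F (T F 2 3)) ∘ₗ pure v₀ with hY
    set W := coeff Y v₁ with hW
    by_cases hdef : ∃ u, Y u ∉ LinearMap.range (pure v₁) ∧ ∃ φ : Dual F (Fin 3 → F), φ ≠ 0 ∧
        ev φ (Y u) = 0 ∧ (W = ⊥ ∨ φ v₁ = 0)
    · obtain ⟨u, hu, φ, hφ, hφp, hφW⟩ := hdef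
      obtain ⟨g', hg', hnp', hd'⟩ := hM.shift_deficient hb (by omega) hg hv₀ hv₁ hnp hns hu hφ hφp fun w hw => by
        rcases hφW with h | h
        · rw [(Submodule.eq_bot_iff W).1 h w hw, smul_zero]
        · rw [h, zero_smul]
      have hd'' : finrank F W < finrank F (coeff ((g' : Module.End F (T F 2 3)) ∘ₗ pure v₀) v₀) := hd'
      exact hns (ih hg' hv₀ hv₀ hnp' (by omega))
    push Not at hdef
    obtain ⟨u, hu⟩ : ∃ u, Y u ∉ LinearMap.range (pure v₁) := by
      by_contra hc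
      push Not at hc
      exact hnp v₁ (by rintro _ ⟨x, rfl⟩; exact hc x)
    have hW0 : W ≠ ⊥ := by
      obtain ⟨φ, hφ, h0⟩ := Submodule.exists_mem_ne_zero_of_ne_bot
        (LinearMap.ker_ne_bot_of_finrank_lt
          (f := ({ toFun := fun φ => ev φ (Y u), map_add' := fun φ χ => rfl, map_smul' := fun r φ => rfl } :
            Dual F (Fin 3 → F) →ₗ[F] (Fin 2 → F)))
          (by rw [Subspace.dual_finrank_eq, finrank_fin_fun, finrank_fin_fun]; omega))
      exact (hdef u hu φ h0 hφ).1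
    have h1 : finrank F W ≠ 0 := fun h => hW0 (Submodule.finrank_eq_zero.1 h)
    exact hns (endpoint_two hM hg hv₀ hv₁ hu (by rw [← hY, ← hW]; omega) fun φ h1 h2 =>
      by_contra fun h0 => (hdef u hu φ h0 h1).2 h2)

/-- All elementary maps lie in an overgroup of `GL_2 ⊗ GL_3` that does not respect the decomposition. -/
theorem mn_elm_of_notPure_two (hM : Ov M) (hq : ∃ t : F, t ≠ 0 ∧ t ≠ 1) (hg : g ∈ M) (hv₀ : v₀ ≠ 0)
    (hnp : NotPure ((g : Module.End F (T F 2 3)) ∘ₗ pure v₀)) (p q : Fin 2 × Fin 3) (hpq : p ≠ q) (c : F) :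
    MN M (elm p q c) := by
  obtain ⟨X, hX, hns⟩ := hasNonScalar_two hM 2 hg hv₀ hv₀ hnp (Nat.le_add_left _ _)
  exact hM.mn_elm le_rfl le_rfl (Or.inr hq) hX hns p q hpq c

end Cfsg.Agent.H57.SLSmall
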