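import Cfsg.Agent.S5631
import Cfsg.Agent.S5634
import Cfsg.Agent.S5637
import Cfsg.Agent.S5639
import Cfsg.Agent.S5642
import Cfsg.Agent.S5644
import Cfsg.Agent.H57.SLSmall.Tensor
import Cfsg.Agent.H57.SLSmall.Unitary
import Cfsg.Agent.H57.SLSmall.QuadMax

/-!
The geometric maximality arguments for the special linear group, stated down to dimension six.
-/

set_option autoImplicit false

open Cfsg

namespace Cfsg.Agent.H57.SLSmall

section
open scoped MatrixGroups Matrix
open Matrix Cfsg.Agent.H95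

theorem subspace_maximal {F : Type*} [Field F] [Fintype F] (n : ℕ) (W : Submodule F (Fin n → F)) (hW0 : W ≠ ⊥) (hW1 : W ≠ ⊤) : Cfsg.Geo.IsMaximalIn (Cfsg.Geo.specialLinear (Fin n) F) (Cfsg.Geo.subspaceStabilizer W ⊓ Cfsg.Geo.specialLinear (Fin n) F) := by
  set SL := Geo.specialLinear (Fin n) F with hSL
  set S := Geo.subspaceStabilizer W ⊓ SL with hS
  obtain ⟨w₀, hw₀, hw₀0⟩ := W.ne_bot_iff.1 hW0
  obtain ⟨v₀, -, hv₀⟩ := SetLike.exists_of_lt (lt_top_iff_ne_top.2 hW1)
  refine ⟨lt_of_le_of_ne inf_le_right fun hEq => ?_, ?_⟩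
  · obtain ⟨φ, hφw, hφ⟩ := exists_covec (Submodule.span F {v₀}) (v := w₀) (by
      rw [Submodule.mem_span_singleton]
      rintro ⟨c, rfl⟩
      exact hv₀ (by
        rcases eq_or_ne c 0 with rfl | hc
        · simp at hw₀0
        · simpa [smul_smul, inv_mul_cancel₀ hc] using W.smul_mem c⁻¹ hw₀))
    have h0 : φ ⬝ᵥ v₀ = 0 := hφ v₀ (Submodule.mem_span_singleton_self v₀)
    have h : tv v₀ φ h0 ∈ S := hEq.symm ▸ tv_mem_specialLinear v₀ φ h0
    have h1 := (mem_subspaceStabilizer.1 h.1 w₀).1 hw₀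
    rw [tv_mulVec, hφw, one_smul] at h1
    exact hv₀ (by simpa using W.sub_mem h1 hw₀)
  intro M hSM hMSL
  by_cases hMS : M ≤ S
  · exact Or.inl (le_antisymm hMS hSM)
  right
  obtain ⟨g, hgM, hgS⟩ := SetLike.not_le_iff_exists.1 hMS
  -- the set of directions all of whose transvections lie in M
  set X : Set (Fin n → F) := {a | ∀ φ, φ ⬝ᵥ a = 0 → InTv M a φ} with hX
  have hXW : ∀ a ∈ W, a ∈ X := fun a ha φ h =>
    ⟨h, hSM ⟨tv_mem_stab_left h ha, tv_mem_specialLinear a φ h⟩⟩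
  have hXg : ∀ h ∈ M, ∀ a ∈ X, (h : Matrix (Fin n) (Fin n) F) *ᵥ a ∈ X := by
    intro h hh a ha φ hφ
    have h1 := (ha (φ ᵥ* (h : Matrix (Fin n) (Fin n) F)) (by rwa [← dotProduct_mulVec])).conj hh
    rwa [vecMul_vecMul, ← Units.val_mul, mul_inv_cancel, Units.val_one, vecMul_one] at h1
  have hXs : ∀ (c : F), ∀ a ∈ X, c • a ∈ X := by
    intro c a ha φ hφ
    rcases eq_or_ne c 0 with rfl | hc
    · rw [zero_smul]; exact inTv_zero_left M φ
    · rw [dotProduct_smul, smul_eq_mul, mul_eq_zero] at hφ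
      have hφ' := hφ.resolve_left hc
      exact inTv_smul_left (ha _ (by simp [hφ'])) hφ'
  obtain ⟨b, hbW, hgb⟩ : ∃ b ∈ W, (g : Matrix (Fin n) (Fin n) F) *ᵥ b ∉ W := by
    by_contra hcon
    push Not at hcon
    exact hgS ⟨mem_stab_of_forward hcon, hMSL hgM⟩
  set u := (g : Matrix (Fin n) (Fin n) F) *ᵥ b with hu
  have huX : u ∈ X := hXg g hgM b (hXW b hbW)
  refine le_antisymm hMSL (specialLinear_le fun a φ h0 => ?_)
  suffices a ∈ X from this φ h0
  have htrans : ∀ w ∈ W, u + w ∈ X := by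
    intro w hw
    obtain ⟨ψ, hψu, hψ⟩ := exists_covec W hgb
    have h1 : tv w ψ (hψ w hw) ∈ M :=
      hSM ⟨tv_mem_stab_left _ hw, tv_mem_specialLinear _ _ _⟩
    have h2 := hXg _ h1 u huX
    rwa [tv_mulVec, hψu, one_smul] at h2
  by_cases ha : a ∈ W ⊔ Submodule.span F {u}
  · obtain ⟨w, hw, z, hz, rfl⟩ := Submodule.mem_sup.1 ha
    obtain ⟨c, rfl⟩ := Submodule.mem_span_singleton.1 hz
    rcases eq_or_ne c 0 with rfl | hc
    · simpa using hXW w hw
    · have h2 := hXs c _ (htrans (c⁻¹ • w) (W.smul_mem _ hw))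
      rwa [smul_add, smul_smul, mul_inv_cancel₀ hc, one_smul, add_comm] at h2
  · obtain ⟨ψ, hψu, hψ⟩ := exists_covec (W ⊔ Submodule.span F {a - u}) (v := u) (by
      rw [Submodule.mem_sup]
      rintro ⟨w, hw, z, hz, e⟩
      obtain ⟨c, rfl⟩ := Submodule.mem_span_singleton.1 hz
      rcases eq_or_ne c 0 with rfl | hc
      · rw [zero_smul, add_zero] at e
        exact hgb (e ▸ hw)
      · apply ha
        have e2 : c • a = -w + (1 + c) • u := by
          rw [add_smul, one_smul]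
          nth_rw 1 [← e]
          rw [smul_sub]; abel
        rw [Submodule.mem_sup]
        refine ⟨c⁻¹ • -w, W.smul_mem _ (W.neg_mem hw), (c⁻¹ * (1 + c)) • u,
          Submodule.mem_span_singleton.2 ⟨_, rfl⟩, ?_⟩
        rw [mul_smul, ← smul_add, ← e2, smul_smul, inv_mul_cancel₀ hc, one_smul])
    have h0' : ψ ⬝ᵥ (a - u) = 0 :=
      hψ _ (Submodule.mem_sup_right (Submodule.mem_span_singleton_self _))
    have h1 : tv (a - u) ψ h0' ∈ M :=
      hSM ⟨tv_mem_stab_right _ fun w hw => hψ w (Submodule.mem_sup_left hw),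
        tv_mem_specialLinear _ _ _⟩
    have h2 := hXg _ h1 u huX
    rwa [tv_mulVec, hψu, one_smul, add_sub_cancel] at h2

end

section
open Matrix Cfsg.Agent.H95

theorem decomposition_maximal {F : Type*} [Field F] [Fintype F] (n : ℕ) (hn : 5 ≤ n) {t : ℕ} (m : ℕ) (D : Fin t → Submodule F (Fin n → F)) (hD : Cfsg.Geo.IsMDecomposition m D) (h1 : ¬ (m = 1 ∧ Fintype.card F ≤ 4)) (h2 : ¬ (m = 2 ∧ Fintype.card F = 2)) : Cfsg.Geo.IsMaximalIn (Cfsg.Geo.specialLinear (Fin n) F) (Cfsg.Geo.decompositionStabilizer D ⊓ Cfsg.Geo.specialLinear (Fin n) F) := by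
  classical
  have ht := hD.two_le
  have hm := hD.pos
  have htm : n = t * m := by
    have h := Module.finrank_eq_card_basis (blockBasis D hD)
    rw [Module.finrank_fin_fun, Fintype.card_sigma] at h
    simpa using h
  have hstrict : ∀ (i j : Fin t), i ≠ j → ∃ g ∈ Geo.specialLinear (Fin n) F,
      g ∉ Geo.decompositionStabilizer D := by
    intro i j hij
    set a := blockBasis D hD ⟨i, ⟨0, hm⟩⟩
    set c := blockBasis D hD ⟨j, ⟨0, hm⟩⟩
    have ha : a ∈ D i := blockBasis_mem hD ⟨i, ⟨0, hm⟩⟩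
    have h0 : crdVec hD ⟨j, ⟨0, hm⟩⟩ ⬝ᵥ a = 0 := by
      rw [crdVec_dot, crd_basis, if_neg]
      intro e
      exact hij (congrArg Sigma.fst e)
    refine ⟨tv a _ h0, tv_mem_specialLinear _ _ _,
      not_mem_decompositionStabilizer hD (blockBasis_mem hD ⟨j, ⟨0, hm⟩⟩) hij
        (ja := ⟨0, hm⟩) (jb := ⟨0, hm⟩) ?_ ?_⟩
    · rw [tv_mulVec, crdVec_dot, crd_basis, if_pos rfl, one_smul, crd_add, crd_basis, crd_basis,
        if_neg (fun e => hij (congrArg Sigma.fst e).symm), if_pos rfl, zero_add]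
      exact one_ne_zero
    · rw [tv_mulVec, crdVec_dot, crd_basis, if_pos rfl, one_smul, crd_add, crd_basis, crd_basis,
        if_pos rfl, if_neg (fun e => hij (congrArg Sigma.fst e)), add_zero]
      exact one_ne_zero
  refine ⟨lt_of_le_of_ne inf_le_right ?_, fun M hSM hMSL => ?_⟩
  · intro hEq
    obtain ⟨g, hg, hgn⟩ := hstrict ⟨0, by omega⟩ ⟨1, by omega⟩ (by simp)
    rw [← hEq] at hg
    exact hgn hg.1
  by_cases hMS : M ≤ Geo.decompositionStabilizer D ⊓ Geo.specialLinear (Fin n) F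
  · exact Or.inl (le_antisymm hMS hSM)
  right
  obtain ⟨g, hgM, hgS⟩ := SetLike.not_le_iff_exists.1 hMS
  have hgD : g ∉ Geo.decompositionStabilizer D := fun h => hgS ⟨h, hMSL hgM⟩
  refine le_antisymm hMSL ?_
  rcases eq_or_ne m 1 with rfl | hm1
  · refine specialLinear_le_of_lines hD rfl ?_ (by rw [Fintype.card_fin]; omega) hSM hMSL hgM hgD
    have := Fintype.one_lt_card (α := F)
    omega
  refine specialLinear_le_of_blocks hD hSM (by omega) ?_ hgM hgD
  rcases Nat.lt_or_ge m 3 with h | h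
  · right
    have hm2 : m = 2 := by omega
    subst hm2
    refine ⟨by omega, ?_⟩
    have h3 : 3 ≤ Fintype.card F := by
      have := Fintype.one_lt_card (α := F)
      have : Fintype.card F ≠ 2 := fun e => h2 ⟨rfl, e⟩
      omega
    obtain ⟨x, -, hx⟩ := Finset.exists_mem_notMem_of_card_lt_card
      (s := ({0, 1} : Finset F)) (t := Finset.univ)
      (lt_of_le_of_lt Finset.card_le_two (by rw [Finset.card_univ]; omega))
    simp at hx
    exact ⟨Units.mk0 x hx.1, hx.2⟩
  · exact Or.inl h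

end

section
open scoped MatrixGroups Matrix
open Matrix Cfsg.Agent.H95

theorem subfield_maximal {F : Type*} [Field F] [Fintype F] (n : ℕ) (hn : 5 ≤ n) (F₀ : Subfield F) (r : ℕ) (hr : r.Prime) (hcard : Fintype.card F = Nat.card F₀ ^ r) (P : Matrix.GeneralLinearGroup (Fin n) F) : Cfsg.Geo.IsMaximalIn (Cfsg.Geo.specialLinear (Fin n) F) (Cfsg.Geo.subfieldSubgroup F₀ P ⊓ Cfsg.Geo.specialLinear (Fin n) F) := by
  obtain ⟨hlt, hmax⟩ := S5639.standard (ι := Fin n) F₀ hr hcard (by rw [Fintype.card_fin]; omega)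
  set SL := Geo.specialLinear (Fin n) F with hSL
  haveI : SL.Normal := by rw [hSL, Geo.specialLinear]; infer_instance
  set c : GL (Fin n) F ≃* GL (Fin n) F := MulAut.conj P with hc
  have hSLc : SL.map c.toMonoidHom = SL := by
    refine le_antisymm ?_ ?_
    · rintro _ ⟨x, hx, rfl⟩
      exact Subgroup.Normal.conj_mem inferInstance x hx P
    · intro x hx
      refine ⟨c.symm x, ?_, c.apply_symm_apply x⟩
      show P⁻¹ * x * P ∈ SL
      simpa using Subgroup.Normal.conj_mem inferInstance x hx P⁻¹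
  have hS : (baseGrp F₀ (Fin n) ⊓ SL).map c.toMonoidHom = Geo.subfieldSubgroup F₀ P ⊓ SL := by
    rw [Subgroup.map_inf _ _ _ c.injective, hSLc]
    rfl
  rw [← hS]
  conv => congr; rw [← hSLc]
  refine ⟨(Subgroup.map_lt_map_iff_of_injective c.injective).2 hlt, fun M h1 h2 => ?_⟩
  have h1' : baseGrp F₀ (Fin n) ⊓ SL ≤ M.comap c.toMonoidHom := Subgroup.map_le_iff_le_comap.1 h1
  have h2' : M.comap c.toMonoidHom ≤ SL := by
    intro x hx
    obtain ⟨y, hy, hxy⟩ := h2 hx
    rwa [c.injective hxy] at hy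
  have hM : (M.comap c.toMonoidHom).map c.toMonoidHom = M :=
    Subgroup.map_comap_eq_self_of_surjective c.surjective M
  rcases hmax _ h1' h2' with h | h
  · left; rw [← hM, h]
  · right; rw [← hM, h]

end

section
open scoped MatrixGroups Matrix
open Matrix Cfsg.Agent.H95

theorem symplectic_maximal {F : Type*} [Field F] [Fintype F] (n : ℕ) (hn : 3 ≤ n) (f : (Fin n → F) → (Fin n → F) → F) (hf : Cfsg.Geo.IsSymplecticForm f) : Cfsg.Geo.IsMaximalIn (Cfsg.Geo.specialLinear (Fin n) F) (Cfsg.Geo.similarityGroup f ⊓ Cfsg.Geo.specialLinear (Fin n) F) := by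
  set SL := Geo.specialLinear (Fin n) F with hSL
  set S := Geo.similarityGroup f ⊓ SL with hS
  have hroot : ∀ u l, rt hf u l ∈ S := fun u l =>
    ⟨⟨1, fun x y => by simpa using mem_isoGrp.1 (rt_mem_iso hf u l) x y⟩, rt_mem_sl hf u l⟩
  refine ⟨lt_of_le_of_ne inf_le_right ?_, ?_⟩
  · intro hEq
    obtain ⟨a, ha⟩ : ∃ a : Fin n → F, a ≠ 0 := ⟨Pi.single ⟨0, by omega⟩ 1, by simp⟩
    obtain ⟨c, hac, hc⟩ : ∃ c, f a c = 0 ∧ ∀ t : F, c ≠ t • a := by
      by_contra hcon
      push Not at hcon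
      obtain ⟨x, hx⟩ := exists_f_eq_one hf ha
      have htop : (⊤ : Submodule F (Fin n → F)) ≤ Submodule.span F {a, x} := by
        intro w _
        obtain ⟨t, ht⟩ := hcon (w - f a w • x)
          (by rw [f_sub_right hf, f_smul_right hf, hx, mul_one, sub_self])
        rw [Submodule.mem_span_pair]
        exact ⟨t, f a w, by rw [← ht]; abel⟩
      have h1 := Submodule.finrank_mono htop
      rw [finrank_top, Module.finrank_fin_fun] at h1
      classical
      have h2 : Module.finrank F (Submodule.span F ({a, x} : Set (Fin n → F))) ≤ 2 := by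
        have := finrank_span_finset_le_card (R := F) ({a, x} : Finset (Fin n → F))
        rw [Finset.coe_insert, Finset.coe_singleton] at this
        exact this.trans Finset.card_le_two
      omega
    have h0 : dv f c ⬝ᵥ a = 0 := by rw [dv_dot hf, hac]
    obtain ⟨⟨μ, hμ⟩, -⟩ : tv a (dv f c) h0 ∈ S := hEq.symm ▸ tv_mem_specialLinear a (dv f c) h0
    obtain ⟨z, hz⟩ := exists_f_eq_one hf ha
    have e1 := hμ a z
    rw [tv_mulVec, tv_mulVec, dv_dot hf, dv_dot hf, hac, zero_smul, add_zero, f_add_right hf,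
      f_smul_right hf, f_self hf, hz, mul_zero, add_zero, mul_one] at e1
    obtain ⟨x, hx1, hx2⟩ := exists_perp_nonorth hf hc
    have e2 := hμ x z
    rw [tv_mulVec, tv_mulVec, dv_dot hf, dv_dot hf, ← e1, one_mul, f_add_left hf, f_add_right hf,
      f_add_right hf, f_smul_left hf, f_smul_left hf, f_smul_right hf, f_smul_right hf, f_self hf,
      hz, f_skew hf x a, hx1, f_skew hf x c, hx2] at e2
    exact one_ne_zero (α := F) (by linear_combination -e2)
  intro M hSM hMSL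
  by_cases hMS : M ≤ S
  · exact Or.inl (le_antisymm hMS hSM)
  right
  obtain ⟨g, hgM, hgS⟩ := SetLike.not_le_iff_exists.1 hMS
  have hM : ∀ u l, rt hf u l ∈ M := fun u l => hSM (hroot u l)
  -- some conjugate of a symplectic transvection is not symplectic
  obtain ⟨u, c, hu, huc, hc, huM⟩ : ∃ u c, u ≠ 0 ∧ f u c = 0 ∧ (∀ t : F, c ≠ t • u) ∧
      ∀ l : F, InTv M u (l • dv f c) := by
    by_contra hcon
    push Not at hcon
    apply hgS
    refine ⟨?_, hMSL hgM⟩
    have key : ∀ a : Fin n → F, a ≠ 0 → ∃ t : F, ∀ y,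
        f y a = t * f ((g : Matrix (Fin n) (Fin n) F) *ᵥ y) ((g : Matrix (Fin n) (Fin n) F) *ᵥ a) := by
      intro a ha
      obtain ⟨d, hd⟩ := exists_dv hf (dv f a ᵥ* ((g⁻¹ : GL (Fin n) F) : Matrix (Fin n) (Fin n) F))
      have hall : ∀ l : F, InTv M ((g : Matrix (Fin n) (Fin n) F) *ᵥ a) (l • dv f d) := by
        intro l
        have h0 : InTv M a (l • dv f a) :=
          ⟨by rw [smul_dotProduct, dv_dot hf, f_self hf, smul_zero], hM a l⟩
        have h1 := h0.conj hgM
        rwa [smul_vecMul, ← hd] at h1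
      have hga : (g : Matrix (Fin n) (Fin n) F) *ᵥ a ≠ 0 := by
        intro h
        apply ha
        rw [← inv_mulVec_mulVec g a, h, mulVec_zero]
      have hperp : f ((g : Matrix (Fin n) (Fin n) F) *ᵥ a) d = 0 := by
        rw [← dv_dot hf, hd, ← dotProduct_mulVec, inv_mulVec_mulVec, dv_dot hf, f_self hf]
      by_cases ht : ∃ t : F, d = t • (g : Matrix (Fin n) (Fin n) F) *ᵥ a
      · obtain ⟨t, rfl⟩ := ht
        refine ⟨t, fun y => ?_⟩
        rw [← f_smul_right hf]
        conv_rhs => rw [← dv_dot hf, hd, ← dotProduct_mulVec, inv_mulVec_mulVec, dv_dot hf]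
      · push Not at ht
        obtain ⟨l, hl⟩ := hcon _ d hga hperp ht
        exact absurd (hall l) hl
    obtain ⟨a₀, ha₀⟩ : ∃ a : Fin n → F, a ≠ 0 := ⟨Pi.single ⟨0, by omega⟩ 1, by simp⟩
    obtain ⟨t, ht⟩ := key a₀ ha₀
    have ht0 : t ≠ 0 := by
      rintro rfl
      obtain ⟨x, hx⟩ := exists_f_eq_one hf ha₀
      have := ht x
      rw [zero_mul] at this
      exact one_ne_zero (α := F) (hx ▸ (f_symm_zero hf this))
    refine ⟨Units.mk0 t⁻¹ (inv_ne_zero ht0), fun y b => ?_⟩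
    rcases eq_or_ne b 0 with rfl | hb
    · rw [mulVec_zero, f_zero_right hf, f_zero_right hf, mul_zero]
    obtain ⟨tb, htb⟩ := key b hb
    suffices tb = t by rw [htb y, this, Units.val_mk0, ← mul_assoc, inv_mul_cancel₀ ht0, one_mul]
    obtain ⟨x, hx1, hx2⟩ := exists_common_nonorth hf ha₀ hb
    have hx0 : x ≠ 0 := by rintro rfl; exact hx1 (f_zero_right hf a₀)
    obtain ⟨tx, htx⟩ := key x hx0
    have hh : ∀ (p : Fin n → F) (tp : F), f p x ≠ 0 →
        (∀ y, f y p = tp * f ((g : Matrix (Fin n) (Fin n) F) *ᵥ y)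
          ((g : Matrix (Fin n) (Fin n) F) *ᵥ p)) → tp = tx := by
      intro p tp hp hh
      have e1 := htx p
      have e2 := hh x
      rw [f_skew hf x p, f_skew hf ((g : Matrix (Fin n) (Fin n) F) *ᵥ x)] at e2
      have h3 : f ((g : Matrix (Fin n) (Fin n) F) *ᵥ p) ((g : Matrix (Fin n) (Fin n) F) *ᵥ x) ≠ 0 := by
        intro h; rw [h, mul_zero] at e1; exact hp e1
      exact mul_right_cancel₀ h3 (by linear_combination e2 + e1)
    rw [hh b tb hx2 htb, hh a₀ t hx1 ht]
  refine le_antisymm hMSL (specialLinear_le fun a φ h0 => ?_)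
  obtain ⟨d, rfl⟩ := exists_dv hf φ
  rcases eq_or_ne a 0 with rfl | ha
  · exact inTv_zero_left M _
  have had : f a d = 0 := by rw [← dv_dot hf, h0]
  by_cases hd : ∃ t : F, d = t • a
  · obtain ⟨t, rfl⟩ := hd
    rw [dv_smul hf]
    exact ⟨by rw [smul_dotProduct, dv_dot hf, f_self hf, smul_zero], hM a t⟩
  · push Not at hd
    obtain ⟨s, hsM, hsi, hsu, hsc⟩ := S5642.move_pair hf hM hu ha huc hc had hd
    have := (huM 1).conj hsM
    rwa [one_smul, hsu, vecMul_inv_dv hf hsi, hsc] at this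

end

section
open scoped MatrixGroups Matrix
open Matrix QuadraticMap Cfsg.Agent.H95

theorem quadratic_maximal {F : Type*} [Field F] [Fintype F] (n : ℕ) (hn : 6 ≤ n) (hodd : Odd (Fintype.card F)) (Q : (Fin n → F) → F) (hQ : Cfsg.Geo.IsNondegenerateQuadraticForm Q) : Cfsg.Geo.IsMaximalIn (Cfsg.Geo.specialLinear (Fin n) F) (Cfsg.Geo.quadSimilarityGroup Q ⊓ Cfsg.Geo.specialLinear (Fin n) F) := by
  have hn' : 6 ≤ Fintype.card (Fin n) := by rw [Fintype.card_fin]; omega
  have h2 : (2 : F) ≠ 0 := by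
    refine Ring.two_ne_zero fun h => ?_
    have := FiniteField.even_card_of_char_two (F := F) h
    rw [Nat.odd_iff] at hodd
    omega
  set SL := Geo.specialLinear (Fin n) F with hSL
  refine ⟨lt_of_le_of_ne inf_le_right ?_, fun M hSM hMSL => ?_⟩
  · intro hEq
    obtain ⟨a, -, ha⟩ := exists_aniso_ker hQ h2 (![] : Fin 0 → Fin n → F) (by omega)
    obtain ⟨b, hb', hb⟩ := exists_aniso_ker hQ h2 ![dv (polar Q) a] (by omega)
    have hab : polar Q b a = 0 := by rw [← qv_dot hQ]; exact hb' 0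
    have h0 : dv (polar Q) b ⬝ᵥ a = 0 := by rw [qv_dot hQ, p_comm hQ, hab]
    obtain ⟨⟨μ, hμ⟩, -⟩ : tv a (dv (polar Q) b) h0 ∈ Geo.quadSimilarityGroup Q ⊓ SL :=
      hEq.symm ▸ tv_mem_specialLinear _ _ h0
    have e1 := hμ a
    rw [tv_mulVec, h0, zero_smul, add_zero] at e1
    have hμ1 : (μ : F) = 1 := (mul_eq_right₀ ha).1 e1.symm
    have e2 := hμ b
    rw [tv_mulVec, qv_dot hQ, q_add hQ, q_smul hQ, p_smul_right hQ, hab, p_self hQ, hμ1, one_mul,
      mul_zero, add_zero, add_eq_left, mul_eq_zero, sq_eq_zero_iff, mul_eq_zero] at e2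
    rcases e2 with (h | h) | h
    · exact h2 h
    · exact hb h
    · exact ha h
  by_cases hMS : M ≤ Geo.quadSimilarityGroup Q ⊓ SL
  · exact Or.inl (le_antisymm hMS hSM)
  right
  refine le_antisymm hMSL ?_
  obtain ⟨g, hgM, hgS⟩ := SetLike.not_le_iff_exists.1 hMS
  have hQ' := S5644.twist hQ g
  refine H57.SLSmall.specialLinear_le_of_two_forms hQ hQ' h2 hn'
    (fun a b ha hb => hSM (S5644.refl_pair_mem hQ h2 a b ha hb)) (fun a b ha hb => ?_) ?_
    (fun e c he hec => hSM ⟨⟨1, fun v => by rw [Units.val_one, one_mul, sg_iso hQ]⟩,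
      sg_mem_specialLinear hQ e c he hec⟩)
  · set g' := ((g⁻¹ : GL (Fin n) F) : Matrix (Fin n) (Fin n) F) with hg'
    have ha' : Q (g' *ᵥ a) ≠ 0 := ha
    have hb' : Q (g' *ᵥ b) ≠ 0 := hb
    convert M.mul_mem (M.mul_mem hgM (hSM (S5644.refl_pair_mem hQ h2 _ _ ha' hb'))) (M.inv_mem hgM)
      using 1
    refine gl_ext fun x => ?_
    have key : ∀ (v : Fin n → F) (hv : Q (g' *ᵥ v) ≠ 0) (x : Fin n → F),
        (rfl' hQ' h2 v hv : Matrix (Fin n) (Fin n) F) *ᵥ x =
        (g : Matrix (Fin n) (Fin n) F) *ᵥ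
          ((rfl' hQ h2 (g' *ᵥ v) hv : Matrix (Fin n) (Fin n) F) *ᵥ (g' *ᵥ x)) := by
      intro v hv x
      rw [rfl'_mulVec, rfl'_mulVec, mulVec_sub, mulVec_smul, hg', mulVec_inv_mulVec,
        mulVec_inv_mulVec]
      congr 3
      simp only [polar, mulVec_add]
    simp only [mul_mulVec]
    rw [key a ha', key b hb']
    simp only [hg', inv_mulVec_mulVec]
  · intro l
    by_contra hcon
    push Not at hcon
    apply hgS
    refine ⟨?_, hMSL hgM⟩
    have hl : l ≠ 0 := by
      rintro rfl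
      obtain ⟨a, -, ha⟩ := exists_aniso_ker hQ' h2 (![] : Fin 0 → Fin n → F) (by omega)
      exact ha (by rw [hcon a, zero_mul])
    refine ⟨Units.mk0 l⁻¹ (inv_ne_zero hl), fun v => ?_⟩
    have := hcon ((g : Matrix (Fin n) (Fin n) F) *ᵥ v)
    simp only [inv_mulVec_mulVec] at this
    rw [Units.val_mk0, this, inv_mul_cancel_left₀ hl]

end

section
open Matrix Module Cfsg.Agent.H96 Cfsg.Agent.H98 Cfsg.Agent.H98.ExtField Cfsg.Agent.H98.TensorGL

theorem tensor_two_three_maximal {F : Type*} [Field F] [Fintype F] (n : ℕ) (hq : ∃ t : F, t ≠ 0 ∧ t ≠ 1) (e : Fin n ≃ Fin 2 × Fin 3) (P : Matrix.GeneralLinearGroup (Fin n) F) : Cfsg.Geo.IsMaximalIn (Cfsg.Geo.specialLinear (Fin n) F) (Cfsg.Geo.tensorProductSubgroup 2 3 e P ⊓ Cfsg.Geo.specialLinear (Fin n) F) := by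
  classical
  set N := Cfsg.Geo.tensorProductSubgroup 2 3 e P with hN
  set SL := Cfsg.Geo.specialLinear (Fin n) F with hSL
  have h1 : 2 ≤ 2 := le_rfl
  let φ := toUnits e P
  have hsl : ∀ g : GL (Fin n) F, LinearMap.det (φ g : Module.End F (T F 2 3)) = 1 → g ∈ SL := fun g hg => by
    refine MonoidHom.mem_ker.2 (Units.ext ?_)
    rw [GeneralLinearGroup.val_det_apply, ← det_toUnits e P, hg]
    rfl
  have hunit : ∀ {k : Type} [Fintype k] [DecidableEq k] (X : Matrix k k F), X * X = 0 →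
      ∃ A : GL k F, (A : Matrix k k F) = 1 + X := fun X hX =>
    ⟨⟨1 + X, 1 - X, by rw [add_mul, one_mul, mul_sub, mul_one, hX]; abel,
      by rw [sub_mul, one_mul, mul_add, mul_one, hX]; abel⟩, rfl⟩
  have hone : ∀ (M : Subgroup (GL (Fin n) F)), N ⊓ SL ≤ M → ∀ (Z : Module.End F (T F 2 3)) (A : GL (Fin 2) F)
      (B : GL (Fin 3) F), Z * Z = 0 → (∀ m, (1 + Z) m =
        fun i => ∑ k, (A : Matrix (Fin 2) (Fin 2) F) i k • ((B : Matrix (Fin 3) (Fin 3) F) *ᵥ m k)) →
      MN (M.map φ.toMonoidHom) Z := by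
    intro M hM Z A B hZ hact
    let u : (Module.End F (T F 2 3))ˣ := ⟨1 + Z, 1 - Z,
      by rw [add_mul, one_mul, mul_sub, mul_one, hZ]; abel,
      by rw [sub_mul, one_mul, mul_add, mul_one, hZ]; abel⟩
    obtain ⟨g, hg⟩ := φ.surjective u
    have hval : (φ g : Module.End F (T F 2 3)) = 1 + Z := by rw [hg]
    exact ⟨hZ, φ g, ⟨g, hM ⟨tensor_mem A B fun m => by rw [hval]; exact hact m,
      hsl g (by rw [hval]; exact det_one_add hZ)⟩, rfl⟩, hval⟩
  have hov : ∀ M : Subgroup (GL (Fin n) F), N ⊓ SL ≤ M → Ov (M.map φ.toMonoidHom) := by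
    refine fun M hM => ⟨fun v χ hv => ?_, fun c ψ hψ => ?_⟩
    · let X : Matrix (Fin 3) (Fin 3) F := LinearMap.toMatrix' (χ.smulRight v)
      have hX : ∀ w, X *ᵥ w = χ w • v := fun w => LinearMap.toMatrix'_mulVec _ w
      obtain ⟨B, hB⟩ := hunit X (Matrix.ext_iff_mulVec.2 fun w => by
        rw [← Matrix.mulVec_mulVec, hX, hX, map_smul, hv, smul_zero, zero_smul, Matrix.zero_mulVec])
      refine hone M hM _ 1 B (by rw [te_mul_te, hv, zero_smul]) fun m => funext fun i => ?_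
      simp [hB, Matrix.add_mulVec, hX, te_apply, Matrix.one_apply, Finset.sum_add_distrib]
    · have h0 : vecMulVec c ψ * vecMulVec c ψ = 0 := by
        rw [vecMulVec_mul_vecMulVec, hψ, zero_smul, vecMulVec_zero]
      obtain ⟨A, hA⟩ := hunit _ h0
      refine hone M hM _ A 1 (by rw [← lt_mul, h0]; exact LinearMap.ext fun m => funext fun i => by simp [lt])
        fun m => ?_
      rw [hA, ← lt_one, ← lt_add]
      simp [lt]
  have helm : ∀ M : Subgroup (GL (Fin n) F), N ⊓ SL ≤ M → ¬ M ≤ N → ∀ p q : Fin 2 × Fin 3, p ≠ q → ∀ c : F,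
      MN (M.map φ.toMonoidHom) (elm p q c) := by
    intro M hM hMN p q hpq c
    obtain ⟨g, hg, hgN⟩ := SetLike.not_le_iff_exists.1 hMN
    obtain ⟨v, hv, hnp⟩ : ∃ v : Fin 3 → F, v ≠ 0 ∧
        NotPure ((φ g : Module.End F (T F 2 3)) ∘ₗ TensorGL.pure v) := by
      by_contra hc
      push Not at hc
      obtain ⟨A, B, hAB⟩ := exists_of_pure (by omega) (by omega) hc
      exact hgN (tensor_mem A B hAB)
    exact mn_elm_of_notPure_two (hov M hM) hq ⟨g, hg, rfl⟩ hv hnp p q hpq c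
  have key : ∀ M : Subgroup (GL (Fin n) F), N ⊓ SL ≤ M → ¬ M ≤ N → SL ≤ M := by
    intro M hM hMN A hA
    have hconj : ∀ B : SpecialLinearGroup (Fin n) F, P * SpecialLinearGroup.toGL B * P⁻¹ ∈ M := by
      refine fun B => Cfsg.Agent.Linear.transvection_induction
        (P := fun B => P * SpecialLinearGroup.toGL B * P⁻¹ ∈ M) (by simp) (fun i j hij c => ?_)
        (fun B C hB hC => ?_) B
      · obtain ⟨-, u, ⟨t, ht, rfl⟩, hu⟩ := helm M hM hMN (e i) (e j) (e.injective.ne hij) c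
        suffices P * SpecialLinearGroup.toGL (SpecialLinearGroup.transvection hij c) * P⁻¹ = t by rwa [this]
        refine Units.ext (Matrix.ext_iff_mulVec.2 fun w => ?_)
        obtain ⟨m, rfl⟩ := (tensorIso e P).surjective w
        have hm := LinearMap.congr_fun hu m
        rw [LinearMap.add_apply, Module.End.one_apply] at hm
        rw [MulEquiv.coe_toMonoidHom, toUnits_apply, LinearEquiv.symm_apply_eq, map_add] at hm
        rw [hm, Units.val_mul, Units.val_mul, ← Matrix.mulVec_mulVec, ← Matrix.mulVec_mulVec, tensorIso_apply,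
          tensorIso_apply, Matrix.mulVec_mulVec _ ((P⁻¹ : GL (Fin n) F) : Matrix (Fin n) (Fin n) F), Units.inv_mul,
          Matrix.one_mulVec, ← Matrix.mulVec_add]
        congr 1
        refine funext fun k => ?_
        rw [SpecialLinearGroup.coe_GL_coe_matrix, SpecialLinearGroup.transvection_coe, Matrix.add_mulVec,
          Matrix.one_mulVec, Matrix.single_mulVec_eq]
        rcases eq_or_ne k i with rfl | hk
        · simp [elm, te_apply, Matrix.single_mulVec_eq]
        · have : e k ≠ e i := e.injective.ne hk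
          simp only [ne_eq, Prod.ext_iff, not_and_or] at this
          rcases this with h | h <;> simp [elm, te_apply, Matrix.single_mulVec_eq, hk, h]
      · have := M.mul_mem hB hC
        rw [map_mul]
        convert this using 1
        group
    have hdetA : (A : Matrix (Fin n) (Fin n) F).det = 1 := by simpa using congrArg Units.val (MonoidHom.mem_ker.1 hA)
    have hdet : ((P⁻¹ * A * P : GL (Fin n) F) : Matrix (Fin n) (Fin n) F).det = 1 := by
      rw [Units.val_mul, Units.val_mul, Matrix.det_mul, Matrix.det_mul, hdetA, mul_one, ← Matrix.det_mul,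
        Units.inv_mul, Matrix.det_one]
    have h := hconj ⟨_, hdet⟩
    convert h using 1
    rw [show SpecialLinearGroup.toGL ⟨_, hdet⟩ = P⁻¹ * A * P from Units.ext rfl]
    group
  refine ⟨lt_of_le_of_ne inf_le_right fun heq => ?_, fun M hM hMS => ?_⟩
  · obtain ⟨g, hg, hgN⟩ := S5637.exists_notMem h1 (by omega) e P hsl
    exact hgN (heq.ge hg).1
  · by_cases h : M ≤ N
    · exact Or.inl (le_antisymm (le_inf h hMS) hM)
    · exact Or.inr (le_antisymm hMS (key M hM h))

end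

end Cfsg.Agent.H57.SLSmall
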